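import Groth.Agent.Lib.FormalExtH7.Onto

/-!
A coherent formal module with a map into a completion, with uniformly killed kernel and cokernel, is a completion.
-/

set_option autoImplicit false
set_option linter.style.haveILetI false
set_option backward.isDefEq.respectTransparency false

universe u

open CategoryTheory CategoryTheory.Limits AlgebraicGeometry Opposite

noncomputable section

namespace Groth.Agent.FormalExtH7

open Groth.Agent.FormalH7 Groth.Agent.GExistH7

variable {A : Type u} [CommRing A] {X : Scheme.{u}} [X.Over (Spec (CommRingCat.of A))] {I : Ideal A}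
  {F : ℕᵒᵖ ⥤ X.Modules}

/-- The transition map of a completion. -/
theorem gm_completion (G : X.Modules) (n : ℕ) : gm (Formal.completion I G) (Nat.le_succ n) = tr I G n := by
  simp only [gm, Formal.completion, Functor.ofOpSequence_map_homOfLE_succ]
  exact (isQuot_modIπ (I ^ (n + 1 + 1)) G).hom_ext ((Formal.modPowπ_trans I (n + 1) G).trans (π_tr I G n).symm)

/-- A map to a completion as a compatible family. -/
theorem isFam_app {G : X.Modules} (α : F ⟶ Formal.completion I G) :
    IsFam (I := I) (E := G) (fun n => α.app (op n)) := fun n =>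
  (α.naturality (homOfLE (Nat.le_succ n)).op).trans (congrArg (α.app (op (n + 1)) ≫ ·) (gm_completion G n))

/-- A system of quotients of a module is its completion. -/
theorem exists_completion_iso {M : X.Modules} (χ : ∀ n, M ⟶ F.obj (op n))
    (hq : ∀ n, IsQuot (I ^ (n + 1)) (χ n)) (hc : ∀ n, χ (n + 1) ≫ gm F (Nat.le_succ n) = χ n) :
    ∃ β : Formal.completion I M ≅ F, ∀ n, Formal.modPowπ I (n + 1) M ≫ β.hom.app (op n) = χ n := by
  choose e he using fun n => (isQuot_modPowπ I (n + 1) M).exists_iso (hq n)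
  let α : Formal.completion I M ⟶ F := NatTrans.ofOpSequence (fun n => (e n).hom) fun n => by
    refine (isQuot_modPowπ I (n + 1 + 1) M).hom_ext ?_
    simp only [Formal.completion, Functor.ofOpSequence_map_homOfLE_succ]
    rw [← Category.assoc, Formal.modPowπ_trans, he]
    exact (hc n).symm.trans ((congrArg (· ≫ _) (he (n + 1)).symm).trans (Category.assoc _ _ _))
  haveI : ∀ k, IsIso (α.app k) := fun ⟨n⟩ => inferInstanceAs (IsIso (e n).hom)
  haveI : IsIso α := NatIso.isIso_of_isIso_app α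
  exact ⟨asIso α, fun n => he n⟩

/-- The map onto the submodule is compatible with the map into the module. -/
theorem onto_comp (hF : IsSys I F) {E P : X.Modules} (q : E ⟶ P)
    (b : ∀ n, F.obj (op n) ⟶ modI (I ^ (n + 1)) E) (hb : IsFam b)
    (him : ∀ n {W : X.Modules} (y : W ⟶ F.obj (op n)), ∃ (W' : X.Modules) (π : W' ⟶ W) (_ : Epi π)
      (z : W' ⟶ kernel q), π ≫ y ≫ b n = z ≫ kernel.ι q ≫ modIπ (I ^ (n + 1)) E)
    (γ : ∀ n, F.obj (op n) ⟶ modI (I ^ (n + 1)) (kernel q)) (d : ℕ)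
    (hγ : ∀ n {W : X.Modules} (y : W ⟶ F.obj (op (n + d))) (z : W ⟶ kernel q),
        y ≫ b (n + d) = z ≫ kernel.ι q ≫ modIπ (I ^ (n + d + 1)) E →
          y ≫ gm F (Nat.le_add_right n d) ≫ γ n = z ≫ modIπ (I ^ (n + 1)) (kernel q)) (n : ℕ) :
    γ n ≫ mapI (I ^ (n + 1)) (kernel.ι q) = b n := by
  haveI := (hF.quot_gm (Nat.le_add_right n d)).epi
  obtain ⟨W, π, hπ, z, hz⟩ := him (n + d) (𝟙 _)
  rw [Category.id_comp] at hz
  rw [← cancel_epi (gm F (Nat.le_add_right n d)), ← cancel_epi π, reassoc_of% (hγ n π z hz), π_mapI,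
    fam_trLE hb, reassoc_of% hz, π_trLE]

/-- Existence for a map into a completion. -/
theorem existence_left [IsNoetherian X] {G : X.Modules} (hG : Coh.IsCoh G) (hF : Formal.IsCohFormal I F)
    (α : F ⟶ Formal.completion I G) (hα : Formal2.KerCokerKilledByIPow I α) :
    ∃ (F' : X.Modules) (a : F' ⟶ G) (β : F ≅ Formal.completion I F'), Coh.IsCoh F' ∧
      Formal2.KerCokerKilledByIPowHom I a ∧
      ∀ n : ℕ, Formal.modPowπ I (n + 1) F' ≫ β.inv.app (op n) ≫ α.app (op n) =
        a ≫ Formal.modPowπ I (n + 1) G := by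
  obtain ⟨t, ht⟩ := hα
  have hFs := isSys_of_isCohFormal hF
  let b : ∀ n, F.obj (op n) ⟶ modI (I ^ (n + 1)) G := fun n => α.app (op n)
  have hb : IsFam b := isFam_app α
  obtain ⟨v, hv, hvs, hvP⟩ := exists_coker_sys isClass_isCoh hFs hFs.coh (fun n => isCoh_modI hG) b hb
  let C := Functor.ofOpSequence (X := fun n => cokernel (b n)) v
  have hgC : ∀ m, gm C (Nat.le_succ m) = v m := fun m => gm_ofOpSequence (M := fun n => cokernel (b n)) v m
  have hπC : ∀ n m (h : n ≤ m), cokernel.π (b m) ≫ gm C h = trLE I G h ≫ cokernel.π (b n) := by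
    intro n m h
    induction m, h using Nat.le_induction with
    | base =>
      rw [gm_refl, (isQuot_modIπ _ G).hom_ext (f := trLE I G le_rfl) (g := 𝟙 _)
        (by rw [π_trLE, Category.comp_id]), Category.id_comp]
      exact Category.comp_id _
    | succ m h ih =>
      rw [← gm_comp C h (Nat.le_succ m), hgC]
      erw [← Category.assoc]
      rw [hv, Category.assoc, ih, ← Category.assoc, tr_eq_trLE, trLE_comp]
  let q : G ⟶ cokernel (b t) := modIπ (I ^ (t + 1)) G ≫ cokernel.π (b t)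
  have hlift : ∀ m (h : t ≤ m) {W : X.Modules} (y : W ⟶ F.obj (op m)),
      ∃ (W' : X.Modules) (π : W' ⟶ W) (_ : Epi π) (z : W' ⟶ kernel q),
        π ≫ y ≫ b m = z ≫ kernel.ι q ≫ modIπ (I ^ (m + 1)) G := by
    intro m h W y
    haveI := (isQuot_modIπ (I ^ (m + 1)) G).epi
    obtain ⟨W', π, hπ, z, hz⟩ := surjective_up_to_refinements_of_epi (modIπ (I ^ (m + 1)) G) (y ≫ b m)
    refine ⟨W', π, hπ, kernel.lift q z ?_, by rw [kernel.lift_ι_assoc, hz]⟩
    simp only [q]
    rw [← π_trLE I G h, Category.assoc, ← reassoc_of% hz, ← reassoc_of% (fam_trLE hb h), cokernel.condition,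
      comp_zero, comp_zero, comp_zero]
  have him : ∀ n {W : X.Modules} (y : W ⟶ F.obj (op n)), ∃ (W' : X.Modules) (π : W' ⟶ W) (_ : Epi π)
      (z : W' ⟶ kernel q), π ≫ y ≫ b n = z ≫ kernel.ι q ≫ modIπ (I ^ (n + 1)) G := by
    intro n W y
    haveI := (hFs.quot_gm (le_max_left n t)).epi
    obtain ⟨W₁, π₁, hπ₁, y', hy'⟩ := surjective_up_to_refinements_of_epi (gm F (le_max_left n t)) y
    obtain ⟨W₂, π₂, hπ₂, z, hz⟩ := hlift _ (le_max_right n t) y'
    refine ⟨W₂, π₂ ≫ π₁, epi_comp _ _, z, ?_⟩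
    rw [Category.assoc, reassoc_of% hy', fam_trLE hb, reassoc_of% hz, π_trLE]
  have hsurj : ∀ n {W : X.Modules} (z : W ⟶ kernel q), ∃ (W' : X.Modules) (π : W' ⟶ W) (_ : Epi π)
      (y : W' ⟶ F.obj (op n)), π ≫ z ≫ kernel.ι q ≫ modIπ (I ^ (n + 1)) G = y ≫ b n := by
    intro n W z
    haveI : IsIso (gm C (le_max_right n t)) := isIso_gm_of_killed (fun k => (hvs.quot k).isIso_desc) _
      (show t + 1 ≤ t + 1 from le_rfl) (fun k => (ht k).2)
    have h0 : (z ≫ kernel.ι q ≫ modIπ (I ^ (max n t + 1)) G) ≫ cokernel.π (b (max n t)) = 0 := by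
      rw [← cancel_mono (gm C (le_max_right n t))]
      simp only [Category.assoc, zero_comp]
      rw [hπC, π_trLE_assoc, show kernel.ι q ≫ modIπ (I ^ (t + 1)) G ≫ cokernel.π (b t) = kernel.ι q ≫ q from rfl,
        kernel.condition, comp_zero]
    obtain ⟨W', π, hπ, y, hy⟩ := (ShortComplex.exact_cokernel (b (max n t))).exact_up_to_refinements _ h0
    refine ⟨W', π, hπ, y ≫ gm F (le_max_left n t), ?_⟩
    change π ≫ z ≫ kernel.ι q ≫ modIπ (I ^ (max n t + 1)) G = y ≫ b (max n t) at hy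
    rw [Category.assoc, fam_trLE hb, ← reassoc_of% hy, π_trLE]
  have hker : ∀ n, ∀ a ∈ I ^ (t + 1), ∀ {W : X.Modules} (y : W ⟶ F.obj (op n)), y ≫ b n = 0 →
      y ≫ Formal.smulMod A (F.obj (op n)) a = 0 := fun n a ha W y hy => by
    rw [← kernel.lift_ι (b n) y hy, Category.assoc, ← smulMod_naturality, (ht n).1 a ha, zero_comp, comp_zero]
  obtain ⟨γ, hγ, hγe, hγk, d, hγd⟩ := exists_onto hFs hG (hvP t) q b hb (I ^ (t + 1)) hker him hsurj
  have hbγ := onto_comp hFs q b hb him γ d hγd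
  obtain ⟨F', a', χ, hF', ha', hχ, hχc, hχγ, N, -, hext, -⟩ :=
    exists_glue hFs (M1.isCoh_kernel hG (hvP t).1 q) γ hγ hγe (t + 1) hγk
  obtain ⟨β, hβ⟩ := exists_completion_iso χ hχ hχc
  refine ⟨F', a' ≫ kernel.ι q, β.symm, hF', ⟨t, fun x hx => ?_, fun x hx => ?_⟩, fun n => ?_⟩
  · rw [← cancel_mono (kernel.ι (a' ≫ kernel.ι q)), smulMod_naturality, zero_comp]
    have h0 : kernel.ι (a' ≫ kernel.ι q) ≫ a' = 0 := by
      rw [← cancel_mono (kernel.ι q), Category.assoc, kernel.condition, zero_comp]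
    refine hext _ _ ?_ ?_
    · rw [zero_comp, Category.assoc, smulMod_naturality, ← Category.assoc]
      exact hker N x hx _ (by
        rw [Category.assoc, ← hbγ N, ← Category.assoc (χ N), hχγ, Category.assoc, reassoc_of% h0, zero_comp])
    · rw [zero_comp, Category.assoc, smulMod_naturality, ← Category.assoc, h0, zero_comp]
  · rw [← cancel_epi (cokernel.π (a' ≫ kernel.ι q)), ← smulMod_naturality, comp_zero]
    have h1 : kernel.ι q ≫ cokernel.π (a' ≫ kernel.ι q) = 0 := by
      rw [← cancel_epi a', ← Category.assoc, cokernel.condition, comp_zero]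
    have h2 : Formal.smulMod A G x ≫ q = 0 := by
      rw [smulMod_naturality, show Formal.smulMod A (cokernel (b t)) x = 0 from (ht t).2 x hx, comp_zero]
    rw [← kernel.lift_ι q _ h2, Category.assoc, h1, comp_zero]
  · show Formal.modPowπ I (n + 1) F' ≫ β.hom.app (op n) ≫ α.app (op n) = _
    rw [reassoc_of% (hβ n), ← show b n = α.app (op n) from rfl, ← hbγ n, ← Category.assoc, hχγ, Category.assoc,
      π_mapI]
    exact (Category.assoc _ _ _).symm

end Groth.Agent.FormalExtH7
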