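import Groth.Agent.Lib.FormalExtH7.Mult

/-!
A coherent formal module under a completion, with uniformly killed kernel and cokernel, is a completion.
-/

set_option autoImplicit false
set_option linter.style.haveILetI false
set_option backward.isDefEq.respectTransparency false

universe u

open CategoryTheory CategoryTheory.Limits AlgebraicGeometry Opposite

noncomputable section

namespace Groth.Agent.FormalExtH7

open Groth.Agent.FormalH7 Groth.Agent.GExistH7

variable {A : Type u} [CommRing A] {X : Scheme.{u}} [X.Over (Spec (CommRingCat.of A))] {I : Ideal A}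
  {F : ℕᵒᵖ ⥤ X.Modules}

/-- The conclusion of the existence statement for a map out of a completion. -/
def RightSol (I : Ideal A) (G : X.Modules) (α : Formal.completion I G ⟶ F) : Prop :=
  ∃ (F' : X.Modules) (a : G ⟶ F') (β : Formal.completion I F' ≅ F), Coh.IsCoh F' ∧
    Formal2.KerCokerKilledByIPowHom I a ∧
    ∀ n : ℕ, Formal.modPowπ I (n + 1) G ≫ α.app (op n) = a ≫ Formal.modPowπ I (n + 1) F' ≫ β.hom.app (op n)

section Setup

variable {G : X.Modules} {r : ℕ} {u : Fin r → A}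

/-- Multiplication by the members of a family. -/
abbrev diag (G : X.Modules) (u : Fin r → A) : G ⟶ powM G r :=
  biproduct.lift (f := fun _ : Fin r => G) (fun i => Formal.smulMod A G (u i))

theorem mapI_diag_comp (L : Ideal A) (u : Fin r → A) {T : X.Modules} (α : modI L G ⟶ T)
    (ψ : Fin r → (T ⟶ modI L G)) (h : ∀ i, α ≫ ψ i = Formal.smulMod A _ (u i)) :
    α ≫ powLift L ψ = mapI L (diag G u) := by
  refine sub_eq_zero.1 (powM_ext L _ fun i => ?_)
  rw [Preadditive.sub_comp, sub_eq_zero, Category.assoc, powLift_π, h, mapI_comp, biproduct.lift_π, mapI_smulMod]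

theorem isFam_powLift (ψ : Fin r → ∀ n, F.obj (op n) ⟶ modI (I ^ (n + 1)) G) (hψ : ∀ i, IsFam (ψ i)) :
    IsFam (I := I) (E := powM G r) (fun n => powLift (I ^ (n + 1)) fun i => ψ i n) := fun n => by
  refine sub_eq_zero.1 (powM_ext _ _ fun i => ?_)
  simp only [Preadditive.sub_comp, sub_eq_zero, Category.assoc, powLift_π]
  rw [tr_mapI, powLift_π_assoc, hψ i n]

theorem tr_app (α : Formal.completion I G ⟶ F) (n : ℕ) :
    tr I G n ≫ α.app (op n) = α.app (op (n + 1)) ≫ gm F (Nat.le_succ n) :=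
  (congrArg (· ≫ α.app (op n)) (gm_completion (I := I) G n).symm).trans
    (α.naturality (homOfLE (Nat.le_succ n)).op)

theorem trLE_app (α : ∀ n, modI (I ^ (n + 1)) G ⟶ F.obj (op n))
    (hα : ∀ n, tr I G n ≫ α n = α (n + 1) ≫ gm F (Nat.le_succ n)) {n m : ℕ} (h : n ≤ m) :
    trLE I G h ≫ α n = α m ≫ gm F h := by
  induction m, h using Nat.le_induction with
  | base =>
    rw [gm_refl, Category.comp_id, (isQuot_modIπ _ G).hom_ext (f := trLE I G le_rfl) (g := 𝟙 _)
      (by rw [π_trLE, Category.comp_id]), Category.id_comp]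
  | succ m h ih =>
    rw [← gm_comp F h (Nat.le_succ m), ← trLE_comp I G h (Nat.le_succ m), Category.assoc, ih, ← Category.assoc,
      ← tr_eq_trLE, hα, Category.assoc]

theorem quot_compat {M : X.Modules} (χ : ∀ n, M ⟶ F.obj (op n))
    (hc : ∀ n, χ (n + 1) ≫ gm F (Nat.le_succ n) = χ n) {n m : ℕ} (h : n ≤ m) : χ m ≫ gm F h = χ n := by
  induction m, h using Nat.le_induction with
  | base => rw [gm_refl, Category.comp_id]
  | succ m h ih => rw [← gm_comp F h (Nat.le_succ m), reassoc_of% (hc m), ih]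

end Setup

variable [IsNoetherian X] {G : X.Modules} (hG : Coh.IsCoh G) (hF : IsSys I F)
include hG hF

set_option maxHeartbeats 1000000 in
/-- The module through which the system maps: lifts, in both directions. -/
theorem exists_image (α : ∀ n, modI (I ^ (n + 1)) G ⟶ F.obj (op n)) (t : ℕ)
    (hc : ∀ n, Formal.KilledBy (I ^ (t + 1)) (cokernel (α n))) {r : ℕ} (u : Fin r → A)
    (b : ∀ n, F.obj (op n) ⟶ modI (I ^ (n + 1)) (powM G r)) (hb : IsFam b)
    (hαb : ∀ n, α n ≫ b n = mapI (I ^ (n + 1)) (diag G u)) :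
    ∃ (P : X.Modules) (q : powM G r ⟶ P), Coh.IsCoh P ∧ diag G u ≫ q = 0 ∧
      (∀ n {W : X.Modules} (y : W ⟶ F.obj (op n)), ∃ (W' : X.Modules) (π : W' ⟶ W) (_ : Epi π)
        (z : W' ⟶ kernel q), π ≫ y ≫ b n = z ≫ kernel.ι q ≫ modIπ (I ^ (n + 1)) (powM G r)) ∧
      (∀ n {W : X.Modules} (z : W ⟶ kernel q), ∃ (W' : X.Modules) (π : W' ⟶ W) (_ : Epi π)
        (y : W' ⟶ F.obj (op n)), π ≫ z ≫ kernel.ι q ≫ modIπ (I ^ (n + 1)) (powM G r) = y ≫ b n) ∧
      ∀ v ∈ I ^ (t + 1), ∀ {W : X.Modules} (z : W ⟶ powM G r), z ≫ q = 0 →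
        (z ≫ Formal.smulMod A (powM G r) v) ≫ cokernel.π (diag G u) = 0 := by
  obtain ⟨s, v, hv, hvspan⟩ := exists_family (X := X) (I ^ (t + 1))
  let d := diag G u
  let πP := cokernel.π d
  have hE : Coh.IsCoh (powM G r) := isCoh_powM hG r
  have hP : Coh.IsCoh (cokernel d) := M1.isCoh_cokernel hG.1 hE d
  let bb : ∀ n, F.obj (op n) ⟶ modI (I ^ (n + 1)) (cokernel d) := fun n => b n ≫ mapI (I ^ (n + 1)) πP
  have hbb : IsFam bb := fun n => by
    simp only [bb]
    rw [← Category.assoc, hb n, Category.assoc, Category.assoc, tr_mapI]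
  have hαbb : ∀ n, α n ≫ bb n = 0 := fun n => by
    simp only [bb]
    rw [reassoc_of% (hαb n), mapI_comp, cokernel.condition, mapI_zero]
  have hkill : ∀ n, ∀ a ∈ I ^ (t + 1), bb n ≫ Formal.smulMod A _ a = 0 := fun n a ha => by
    rw [← cokernel.π_desc (α n) (bb n) (hαbb n), Category.assoc, ← smulMod_naturality, hc n a ha, zero_comp, comp_zero]
  let q₁ : cokernel d ⟶ powM (cokernel d) s := diag (cokernel d) v
  have hP' : Coh.IsCoh (powM (cokernel d) s) := isCoh_powM hP s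
  let q₂ := cokernel.π q₁
  obtain ⟨d₁, hd₁⟩ := exists_artinRees I hP' (M1.isCoh_cokernel hP.1 hP' q₁) q₂
  have hT : ∀ n {W : X.Modules} (y : W ⟶ F.obj (op n)), ∃ (W' : X.Modules) (π : W' ⟶ W) (_ : Epi π)
      (τ : W' ⟶ kernel q₁), π ≫ y ≫ bb n = τ ≫ kernel.ι q₁ ≫ modIπ (I ^ (n + 1)) (cokernel d) := by
    intro n W y
    haveI := (hF.quot_gm (Nat.le_add_right n d₁)).epi
    haveI := (isQuot_modIπ (I ^ (n + d₁ + 1)) (cokernel d)).epi
    obtain ⟨W₁, π₁, hπ₁, y', hy'⟩ := surjective_up_to_refinements_of_epi (gm F (Nat.le_add_right n d₁)) y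
    obtain ⟨W₂, π₂, hπ₂, z, hz⟩ :=
      surjective_up_to_refinements_of_epi (modIπ (I ^ (n + d₁ + 1)) (cokernel d)) (y' ≫ bb (n + d₁))
    let e : cokernel d ⟶ kernel q₂ := kernel.lift q₂ q₁ (cokernel.condition _)
    haveI : Epi e := inferInstanceAs (Epi (Abelian.factorThruImage q₁))
    have h0 : (z ≫ q₁) ≫ modIπ (I ^ (n + d₁ + 1)) (powM (cokernel d) s) = 0 := by
      refine powM_ext _ _ fun k => ?_
      simp only [Category.assoc, π_mapI, q₁, diag, biproduct.lift_π_assoc]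
      rw [smulMod_naturality, ← reassoc_of% hz, hkill _ _ (hv k), comp_zero, comp_zero]
    have h1 : (z ≫ e) ≫ modIπ (I ^ (n + 1)) (kernel q₂) = 0 := by
      have hw : (z ≫ e) ≫ kernel.ι q₂ ≫ modIπ (I ^ (n + d₁ + 1)) (powM (cokernel d) s) = 0 := by
        simp only [e, Category.assoc, kernel.lift_ι_assoc]
        rwa [← Category.assoc]
      rw [← kernel.lift_ι (kernel.ι q₂ ≫ modIπ (I ^ (n + d₁ + 1)) (powM (cokernel d) s)) _ hw, Category.assoc, hd₁,
        comp_zero]
    obtain ⟨W₃, π₃, hπ₃, g, hg, hg'⟩ := lift_kernel_modI (I ^ (n + 1)) e _ h1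
    refine ⟨W₃, π₃ ≫ π₂ ≫ π₁, inferInstance, kernel.lift q₁ (π₃ ≫ z - g) ?_, ?_⟩
    · have hq : e ≫ kernel.ι q₂ = q₁ := kernel.lift_ι _ _ _
      simp only [← hq, Preadditive.sub_comp, Category.assoc]
      rw [reassoc_of% hg, sub_self]
    · rw [kernel.lift_ι_assoc, Preadditive.sub_comp, hg', sub_zero, Category.assoc, Category.assoc, Category.assoc,
        reassoc_of% hy', fam_trLE hbb, reassoc_of% hz, π_trLE]
  obtain ⟨d₀, hd₀⟩ := exists_artinRees I hP hP' q₁
  have hTk : Formal.KilledBy (I ^ (t + 1)) (kernel q₁) := killedBy_of_family hvspan fun k => by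
    rw [← cancel_mono (kernel.ι q₁), smulMod_naturality, zero_comp,
      ← biproduct.lift_π (f := fun _ : Fin s => cokernel d) (fun i => Formal.smulMod A (cokernel d) (v i)) k]
    exact kernel.condition_assoc q₁ _ |>.trans zero_comp
  have hTmono : ∀ {W : X.Modules} (τ : W ⟶ kernel q₁),
      τ ≫ kernel.ι q₁ ≫ modIπ (I ^ (t + d₀ + 1)) (cokernel d) = 0 → τ = 0 := by
    intro W τ hτ
    haveI := (isQuot_modIπ (I ^ (t + 1)) (kernel q₁)).isIso_of_killed hTk
    rw [← cancel_mono (modIπ (I ^ (t + 1)) (kernel q₁)), zero_comp,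
      ← kernel.lift_ι (kernel.ι q₁ ≫ modIπ (I ^ (t + d₀ + 1)) (cokernel d)) τ hτ, Category.assoc, hd₀, comp_zero]
  let N₀ := t + d₀
  let q₀ : cokernel d ⟶ biprod (powM (cokernel d) s) (cokernel (bb N₀)) :=
    biprod.lift q₁ (modIπ (I ^ (N₀ + 1)) (cokernel d) ≫ cokernel.π (bb N₀))
  let q : powM G r ⟶ biprod (powM (cokernel d) s) (cokernel (bb N₀)) := πP ≫ q₀
  have hq₁ : ∀ {W : X.Modules} (z : W ⟶ powM G r), z ≫ q = 0 → (z ≫ πP) ≫ q₁ = 0 := fun z hz => by
    simpa [q, q₀] using congrArg (· ≫ biprod.fst) hz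
  refine ⟨_, q, M1.isCoh_biprod hP' (M1.isCoh_cokernel (hF.coh _).1 (isCoh_modI hP) _), ?_, fun n W y => ?_,
    fun n W z => ?_, fun a ha W z hz => ?_⟩
  · simp only [q, πP]
    rw [← Category.assoc, cokernel.condition, zero_comp]
  · haveI := (hF.quot_gm (le_max_left n N₀)).epi
    obtain ⟨W₁, π₁, hπ₁, y', hy'⟩ := surjective_up_to_refinements_of_epi (gm F (le_max_left n N₀)) y
    obtain ⟨W₂, π₂, hπ₂, τ, hτ⟩ := hT (max n N₀) y'
    haveI := (isQuot_modIπ (I ^ (max n N₀ + 1)) (powM G r)).epi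
    obtain ⟨W₃, π₃, hπ₃, z₀, hz₀⟩ :=
      surjective_up_to_refinements_of_epi (modIπ (I ^ (max n N₀ + 1)) (powM G r)) (π₂ ≫ y' ≫ b (max n N₀))
    have hδ : (π₃ ≫ τ ≫ kernel.ι q₁ - z₀ ≫ πP) ≫ modIπ (I ^ (max n N₀ + 1)) (cokernel d) = 0 := by
      simp only [Preadditive.sub_comp, Category.assoc]
      rw [← hτ, ← π_mapI (I ^ (max n N₀ + 1)) πP, ← reassoc_of% hz₀]
      simp only [bb, sub_self]
    obtain ⟨W₄, π₄, hπ₄, g, hg, hg'⟩ := lift_kernel_modI (I ^ (max n N₀ + 1)) πP _ hδ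
    have hz : (π₄ ≫ z₀ + g) ≫ q = 0 := by
      have e : (π₄ ≫ z₀ + g) ≫ πP = π₄ ≫ π₃ ≫ τ ≫ kernel.ι q₁ := by
        rw [Preadditive.add_comp, ← hg, Preadditive.comp_sub, Category.assoc, add_sub_cancel]
      simp only [q, ← Category.assoc, e]
      simp only [Category.assoc, q₀]
      apply biprod.hom_ext
      · simp only [Category.assoc, biprod.lift_fst, kernel.condition, comp_zero, zero_comp]
      · simp only [Category.assoc, biprod.lift_snd, zero_comp]
        rw [← π_trLE_assoc I (cokernel d) (le_max_right n N₀), ← reassoc_of% hτ,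
          ← reassoc_of% (fam_trLE hbb (le_max_right n N₀)), cokernel.condition, comp_zero, comp_zero, comp_zero,
          comp_zero, comp_zero]
    refine ⟨W₄, π₄ ≫ π₃ ≫ π₂ ≫ π₁, inferInstance, kernel.lift q _ hz, ?_⟩
    rw [kernel.lift_ι_assoc, ← π_trLE I (powM G r) (le_max_left n N₀), Preadditive.add_comp, reassoc_of% hg',
      zero_comp, add_zero]
    simp only [Category.assoc]
    rw [← reassoc_of% hz₀, reassoc_of% hy', fam_trLE hb]
  · have hz0 : ((z ≫ kernel.ι q) ≫ πP) ≫ q₁ = 0 := hq₁ _ (by rw [Category.assoc, kernel.condition, comp_zero])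
    have hz1 : ((z ≫ kernel.ι q) ≫ πP ≫ modIπ (I ^ (N₀ + 1)) (cokernel d)) ≫ cokernel.π (bb N₀) = 0 := by
      have e : q ≫ biprod.snd = πP ≫ modIπ (I ^ (N₀ + 1)) (cokernel d) ≫ cokernel.π (bb N₀) := by
        simp [q, q₀]
      simp only [Category.assoc]
      rw [← e, kernel.condition_assoc, zero_comp, comp_zero]
    obtain ⟨W₁, π₁, hπ₁, x₀, hx₀⟩ := (ShortComplex.exact_cokernel (bb N₀)).exact_up_to_refinements _ hz1
    change π₁ ≫ (z ≫ kernel.ι q) ≫ πP ≫ modIπ (I ^ (N₀ + 1)) (cokernel d) = x₀ ≫ bb N₀ at hx₀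
    haveI := (hF.quot_gm (le_max_right n N₀)).epi
    obtain ⟨W₂, π₂, hπ₂, x, hx⟩ := surjective_up_to_refinements_of_epi (gm F (le_max_right n N₀)) x₀
    obtain ⟨W₃, π₃, hπ₃, τ', hτ'⟩ := hT (max n N₀) x
    have hττ : τ' = (π₃ ≫ π₂ ≫ π₁) ≫ kernel.lift q₁ _ hz0 := by
      refine sub_eq_zero.1 (hTmono _ ?_)
      simp only [Preadditive.sub_comp, Category.assoc, kernel.lift_ι_assoc]
      rw [← π_trLE I (cokernel d) (le_max_right n N₀), ← reassoc_of% hτ', π_trLE, ← fam_trLE hbb, ← reassoc_of% hx]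
      simp only [Category.assoc] at hx₀
      rw [hx₀, sub_self]
    haveI := (isQuot_modIπ (I ^ (max n N₀ + 1)) (powM G r)).epi
    let δ := π₃ ≫ π₂ ≫ π₁ ≫ z ≫ kernel.ι q ≫ modIπ (I ^ (max n N₀ + 1)) (powM G r) - π₃ ≫ x ≫ b (max n N₀)
    obtain ⟨W₄, π₄, hπ₄, e, he⟩ :=
      surjective_up_to_refinements_of_epi (modIπ (I ^ (max n N₀ + 1)) (powM G r)) δ
    have he0 : (e ≫ πP) ≫ modIπ (I ^ (max n N₀ + 1)) (cokernel d) = 0 := by
      have h2 : π₃ ≫ x ≫ bb (max n N₀) =
          π₃ ≫ π₂ ≫ π₁ ≫ z ≫ kernel.ι q ≫ πP ≫ modIπ (I ^ (max n N₀ + 1)) (cokernel d) := by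
        rw [hτ', hττ]
        simp only [Category.assoc, kernel.lift_ι_assoc]
      simp only [Category.assoc]
      rw [← π_mapI, ← reassoc_of% he]
      simp only [δ, Preadditive.sub_comp, Category.assoc]
      rw [show b (max n N₀) ≫ mapI _ πP = bb (max n N₀) from rfl, h2, π_mapI, sub_self, comp_zero]
    obtain ⟨W₅, π₅, hπ₅, g, hg, hg'⟩ := lift_kernel_modI (I ^ (max n N₀ + 1)) πP _ he0
    have h3 : (π₅ ≫ e - g) ≫ πP = 0 := by rw [Preadditive.sub_comp, ← hg, Category.assoc, sub_self]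
    obtain ⟨W₆, π₆, hπ₆, h0, hh0⟩ := (ShortComplex.exact_cokernel d).exact_up_to_refinements _ h3
    change π₆ ≫ (π₅ ≫ e - g) = h0 ≫ d at hh0
    refine ⟨W₆, π₆ ≫ π₅ ≫ π₄ ≫ π₃ ≫ π₂ ≫ π₁, inferInstance,
      ((π₆ ≫ π₅ ≫ π₄ ≫ π₃) ≫ x + h0 ≫ modIπ (I ^ (max n N₀ + 1)) G ≫ α (max n N₀)) ≫ gm F (le_max_left n N₀), ?_⟩
    have h4 : π₆ ≫ π₅ ≫ π₄ ≫ δ = h0 ≫ modIπ (I ^ (max n N₀ + 1)) G ≫ α (max n N₀) ≫ b (max n N₀) := by
      rw [hαb, π_mapI, ← reassoc_of% hh0, Preadditive.sub_comp, hg', sub_zero, Category.assoc, he]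
    simp only [δ, Preadditive.comp_sub] at h4
    rw [sub_eq_iff_eq_add] at h4
    simp only [Category.assoc]
    rw [fam_trLE hb, ← π_trLE I (powM G r) (le_max_left n N₀)]
    simp only [Category.assoc, Preadditive.add_comp]
    rw [reassoc_of% h4, Preadditive.add_comp]
    simp only [Category.assoc]
    abel
  · have h1 := hq₁ z hz
    rw [← cancel_mono (𝟙 (cokernel d)), zero_comp, Category.comp_id, Category.assoc, smulMod_naturality,
      ← Category.assoc, ← kernel.lift_ι q₁ _ h1, Category.assoc, ← smulMod_naturality, hTk a ha, zero_comp, comp_zero]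

/-- Existence for a map out of a completion. -/
theorem existence_right (α : Formal.completion I G ⟶ F) (hα : Formal2.KerCokerKilledByIPow I α) :
    RightSol I G α := by
  obtain ⟨t, ht⟩ := hα
  let a₀ : ∀ n, modI (I ^ (n + 1)) G ⟶ F.obj (op n) := fun n => α.app (op n)
  have ha₀ : ∀ n, tr I G n ≫ a₀ n = a₀ (n + 1) ≫ gm F (Nat.le_succ n) := tr_app α
  obtain ⟨r, u, hu, huspan⟩ := exists_family (X := X) (I ^ (t + 1 + (t + 1)))
  have hback : ∀ i, HasBack I a₀ (u i) := fun i =>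
    hasBack_of_mem_mul (L := I ^ (t + 1)) a₀ ha₀ (fun n => (ht n).1) (fun n => (ht n).2)
      (by rw [← pow_add]; exact hu i)
  choose ψ hψ hψe using hback
  let b : ∀ n, F.obj (op n) ⟶ modI (I ^ (n + 1)) (powM G r) := fun n => powLift (I ^ (n + 1)) fun i => ψ i n
  have hb : IsFam b := isFam_powLift ψ hψ
  have hαb : ∀ n, a₀ n ≫ b n = mapI (I ^ (n + 1)) (diag G u) := fun n =>
    mapI_diag_comp _ u (a₀ n) (fun i => ψ i n) fun i => (hψe i n).1
  obtain ⟨P, q, hP, hdq, him, hsurj, hann⟩ := exists_image hG hF a₀ t (fun n => (ht n).2) u b hb hαb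
  have hker : ∀ n, ∀ x ∈ I ^ (t + 1 + (t + 1)), ∀ {W : X.Modules} (y : W ⟶ F.obj (op n)), y ≫ b n = 0 →
      y ≫ Formal.smulMod A (F.obj (op n)) x = 0 := fun n x hx W y hy => by
    rw [← smulMod_naturality]
    refine huspan y (fun i => ?_) x hx
    rw [smulMod_naturality, ← (hψe i n).2, ← powLift_π_assoc (I ^ (n + 1)) (fun i => ψ i n) i, reassoc_of% hy,
      zero_comp]
  obtain ⟨γ, hγ, hγe, hγk, d₁, hγd⟩ := exists_onto hF (isCoh_powM hG r) hP q b hb _ hker him hsurj
  have hbγ := onto_comp hF q b hb him γ d₁ hγd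
  obtain ⟨F', a', χ, hF', ha', hχ, hχc, hχγ, N, hlift, hext, hext'⟩ :=
    exists_glue hF (M1.isCoh_kernel (isCoh_powM hG r) hP.1 q) γ hγ hγe _ hγk
  let d' : G ⟶ kernel q := kernel.lift q (diag G u) hdq
  have hαγ : ∀ n, modIπ (I ^ (n + 1)) G ≫ a₀ n ≫ γ n = d' ≫ modIπ (I ^ (n + 1)) (kernel q) := by
    intro n
    rw [← π_trLE I G (Nat.le_add_right n d₁), Category.assoc, reassoc_of% (trLE_app a₀ ha₀ (Nat.le_add_right n d₁)),
      ← Category.assoc]
    refine hγd n _ d' ?_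
    rw [Category.assoc, hαb, π_mapI, kernel.lift_ι_assoc]
  obtain ⟨a, haN, haa'⟩ := hlift (modIπ (I ^ (N + 1)) G ≫ a₀ N) d' (by rw [Category.assoc, hαγ N])
  have hge : ∀ n (h : N ≤ n), a ≫ χ n = modIπ (I ^ (n + 1)) G ≫ a₀ n := by
    intro n h
    refine hext' n h _ _ ?_ ?_
    · rw [Category.assoc, quot_compat χ hχc h, haN, Category.assoc, ← trLE_app a₀ ha₀ h, π_trLE_assoc]
    · rw [Category.assoc, hχγ, reassoc_of% haa', Category.assoc, hαγ]
  have hall : ∀ n, a ≫ χ n = modIπ (I ^ (n + 1)) G ≫ a₀ n := by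
    intro n
    rw [← quot_compat χ hχc (le_max_left n N), reassoc_of% (hge _ (le_max_right n N)), ← trLE_app a₀ ha₀,
      π_trLE_assoc]
  obtain ⟨β, hβ⟩ := exists_completion_iso χ hχ hχc
  obtain ⟨s, v, hv, hvspan⟩ := exists_family (X := X) (I ^ (t + 1))
  refine ⟨F', a, β, hF', ⟨t + 1 + (t + 1) + t, ?_, ?_⟩, fun n => ?_⟩
  · refine killedBy_mono (Ideal.pow_le_pow_right (show t + 1 + (t + 1) ≤ t + 1 + (t + 1) + t + 1 by omega)) fun x hx => ?_
    rw [← cancel_mono (kernel.ι a), zero_comp]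
    refine huspan _ (fun i => ?_) x hx
    rw [smulMod_naturality, ← biproduct.lift_π (f := fun _ : Fin r => G) (fun i => Formal.smulMod A G (u i)) i,
      ← Category.assoc, show biproduct.lift (f := fun _ : Fin r => G) (fun i => Formal.smulMod A G (u i)) =
        d' ≫ kernel.ι q from (kernel.lift_ι _ _ _).symm, ← haa']
    simp only [← Category.assoc, kernel.condition, zero_comp]
  · have hC : ∀ j k, Formal.smulMod A F' (u j) ≫ Formal.smulMod A F' (v k) ≫ cokernel.π a = 0 := by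
      intro j k
      let m : F' ⟶ powM G r := a' ≫ kernel.ι q
      let g : F' ⟶ G := m ≫ biproduct.π (fun _ : Fin r => G) j
      let δ := g ≫ a - Formal.smulMod A F' (u j)
      have hχb : χ N ≫ b N = m ≫ modIπ (I ^ (N + 1)) (powM G r) := by
        rw [← hbγ N, reassoc_of% (hχγ N), π_mapI, Category.assoc]
      have hχψ : χ N ≫ ψ j N = g ≫ modIπ (I ^ (N + 1)) G := by
        rw [← powLift_π (I ^ (N + 1)) (fun i => ψ i N) j, reassoc_of% hχb, π_mapI]
        simp only [g, m, Category.assoc]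
      have hδN : δ ≫ χ N = 0 := by
        simp only [δ, Preadditive.sub_comp, Category.assoc]
        rw [hall N, ← reassoc_of% hχψ, (hψe j N).2, smulMod_naturality, sub_self]
      have hmq : m ≫ q = 0 := by rw [Category.assoc, kernel.condition, comp_zero]
      obtain ⟨W, π, hπ, h, hh⟩ :=
        (ShortComplex.exact_cokernel (diag G u)).exact_up_to_refinements _ (hann _ (hv k) m hmq)
      change π ≫ m ≫ Formal.smulMod A (powM G r) (v k) = h ≫ diag G u at hh
      have hδa : (δ ≫ Formal.smulMod A F' (v k)) ≫ a' = 0 := by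
        rw [← cancel_mono (kernel.ι q), zero_comp, ← cancel_epi π, comp_zero]
        have e1 : a ≫ Formal.smulMod A F' (v k) ≫ a' ≫ kernel.ι q = Formal.smulMod A G (v k) ≫ diag G u := by
          rw [← smulMod_naturality_assoc a, reassoc_of% haa', kernel.lift_ι]
        have e2 : Formal.smulMod A F' (u j) ≫ Formal.smulMod A F' (v k) ≫ a' ≫ kernel.ι q =
            (m ≫ Formal.smulMod A (powM G r) (v k)) ≫ Formal.smulMod A (powM G r) (u j) := by
          rw [← reassoc_of% (smulMod_mul' (M := F') (u j) (v k)), mul_comm, smulMod_naturality, smulMod_mul']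
          exact (Category.assoc _ _ _).symm
        simp only [δ, Preadditive.sub_comp, Preadditive.comp_sub, Category.assoc, sub_eq_zero, e1, e2]
        simp only [g, Category.assoc]
        rw [← smulMod_naturality_assoc (biproduct.π (fun _ : Fin r => G) j), reassoc_of% hh, reassoc_of% hh,
          biproduct.lift_π_assoc, ← smulMod_naturality (diag G u)]
      have hδ0 : δ ≫ Formal.smulMod A F' (v k) = 0 :=
        hext _ _ (by rw [Category.assoc, smulMod_naturality, reassoc_of% hδN, zero_comp, zero_comp])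
          (by rw [hδa, zero_comp])
      simp only [δ, Preadditive.sub_comp, sub_eq_zero, Category.assoc] at hδ0
      rw [← reassoc_of% hδ0, ← smulMod_naturality_assoc a, cokernel.condition, comp_zero, comp_zero]
    intro x hx
    rw [← cancel_epi (cokernel.π a), ← smulMod_naturality, comp_zero]
    rw [show t + 1 + (t + 1) + t + 1 = (t + 1 + (t + 1)) + (t + 1) by omega, pow_add] at hx
    refine Submodule.mul_induction_on hx (fun x₁ hx₁ x₂ hx₂ => ?_) fun p p' hp hp' => by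
      rw [smulMod_add, Preadditive.add_comp, hp, hp', add_zero]
    rw [smulMod_mul, Category.assoc]
    refine hvspan (Formal.smulMod A F' x₁ ≫ cokernel.π a) (fun k => ?_) x₂ hx₂
    rw [← Category.assoc, ← smulMod_naturality, Category.assoc]
    exact huspan (Formal.smulMod A F' (v k) ≫ cokernel.π a) (fun j => hC j k) x₁ hx₁
  · show modIπ (I ^ (n + 1)) G ≫ a₀ n = a ≫ Formal.modPowπ I (n + 1) F' ≫ β.hom.app (op n)
    rw [hβ, hall]

end Groth.Agent.FormalExtH7
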