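import Groth.Agent.Lib.FormalExtH7.Alg
import Groth.Agent.Lib.GExistH7.Gen
import Groth.Agent.Lib.GExistH7.Tricky
import Groth.Agent.Lib.FormalH7.ModSec
import Groth.Agent.Lib.ModM1.FibreProd
import Groth.Agent.Lib.SerreCl8.Main

/-!
Artin-Rees statements for coherent modules and systems on a Noetherian scheme.
-/

set_option autoImplicit false
set_option linter.style.haveILetI false
set_option backward.isDefEq.respectTransparency false

universe u

open CategoryTheory CategoryTheory.Limits AlgebraicGeometry Opposite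

noncomputable section

namespace Groth.Agent.FormalExtH7

open Groth.Agent.FormalH7 Groth.Agent.GExistH7

variable {A : Type u} [CommRing A] {X : Scheme.{u}} [X.Over (Spec (CommRingCat.of A))]

/-- On affine sections the kernel of a quotient map is the ideal times the module. -/
theorem mem_of_app_eq_zero {L : Ideal A} {M N : X.Modules} (hM : Coh.IsQCoh M) {p : M ⟶ N} (hp : IsQuot L p)
    {U : X.Opens} (hU : IsAffineOpen U) (m : Γ(M, U)) (hm : p.app U m = 0) :
    m ∈ (L.map (multHom X U) • ⊤ : Submodule Γ(X, U) Γ(M, U)) := by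
  obtain ⟨w, hw⟩ := hp.isIso_desc
  letI := secMod (A := A) M U
  refine Submodule.smul_induction_on (mem_smul_of_app_eq_zero hM p w hw hU m hm) (fun a ha s _ => ?_)
    fun a b => add_mem
  exact Submodule.smul_mem_smul (Ideal.mem_map_of_mem _ ha) trivial

/-- The ideal times the module dies under a map killed by the ideal. -/
theorem app_eq_zero_of_mem' {L : Ideal A} {M N : X.Modules} (p : M ⟶ N)
    (hp : ∀ a ∈ L, Formal.smulMod A M a ≫ p = 0) {U : X.Opens} {m : Γ(M, U)}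
    (hm : m ∈ (L.map (multHom X U) • ⊤ : Submodule Γ(X, U) Γ(M, U))) : p.app U m = 0 := by
  refine Submodule.smul_induction_on hm (fun c hc s _ => ?_) fun a b ha hb => by rw [map_add, ha, hb, add_zero]
  induction hc using Submodule.span_induction with
  | mem c hc =>
    obtain ⟨a, ha, rfl⟩ := hc
    exact congrArg (fun φ => φ.app U s) (hp a ha)
  | zero => rw [zero_smul, map_zero]
  | add a b _ _ ha hb => rw [add_smul, map_add, ha, hb, add_zero]
  | smul r a _ ha => rw [smul_eq_mul, mul_smul, Scheme.Modules.Hom.app_smul, ha, smul_zero]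

theorem isQCoh_modI' {L : Ideal A} {M : X.Modules} (hM : Coh.IsQCoh M) : Coh.IsQCoh (modI L M) :=
  M1.isQCoh_cokernel (SerreCl8.isQCoh_sigma _ fun _ => hM) hM _

theorem isCoh_modI [IsLocallyNoetherian X] {L : Ideal A} {M : X.Modules} (hM : Coh.IsCoh M) :
    Coh.IsCoh (modI L M) :=
  M1.isCoh_cokernel (SerreCl8.isQCoh_sigma _ fun _ => hM.1) hM _

set_option maxHeartbeats 800000 in
/-- A finite subfamily detects annihilation by an ideal. -/
theorem exists_family [IsNoetherian X] (L : Ideal A) :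
    ∃ (r : ℕ) (u : Fin r → A), (∀ i, u i ∈ L) ∧ ∀ {M T : X.Modules} (φ : M ⟶ T),
      (∀ i, Formal.smulMod A M (u i) ≫ φ = 0) → ∀ a ∈ L, Formal.smulMod A M a ≫ φ = 0 := by
  classical
  obtain ⟨S, hS, hcov⟩ := M1.exists_finite_affine_iSup (X := X) (U := ⊤) (by simpa using isCompact_univ)
  have hfin : ∀ U : S, ∃ s : Finset A, (s : Set A) ⊆ (L : Set A) ∧
      L.map (multHom X (U.1 : X.Opens)) = Ideal.span (multHom X (U.1 : X.Opens) '' (s : Set A)) := by
    intro U
    haveI : IsNoetherianRing Γ(X, (U.1 : X.Opens)) := IsLocallyNoetherian.component_noetherian U.1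
    obtain ⟨s, hs, hs'⟩ := (Submodule.fg_span_iff_fg_span_finset_subset (R := Γ(X, (U.1 : X.Opens)))
      (multHom X (U.1 : X.Opens) '' (L : Set A))).1 (IsNoetherian.noetherian _)
    obtain ⟨t, ht, rfl⟩ := Finset.subset_set_image_iff.1 hs
    exact ⟨t, ht, hs'.trans (by rw [Finset.coe_image])⟩
  choose s hs hspan using hfin
  haveI := hS.fintype
  let all : Finset A := Finset.univ.biUnion s
  refine ⟨all.card, fun i => (all.equivFin.symm i).1, fun i => ?_, fun {M T} φ hφ a ha => ?_⟩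
  · obtain ⟨U, -, hU⟩ := Finset.mem_biUnion.1 (all.equivFin.symm i).2
    exact hs U hU
  refine Scheme.Modules.hom_ext _ _ fun V => ?_
  ext m
  have hcov' : V ≤ ⨆ U : S, V ⊓ (U.1 : X.Opens) := fun x hx => by
    obtain ⟨U, hU⟩ := TopologicalSpace.Opens.mem_iSup.1
      (show x ∈ (⨆ i : S, (i.1 : X.Opens)) by rw [← hcov]; trivial)
    exact TopologicalSpace.Opens.mem_iSup.2 ⟨U, hx, hU⟩
  refine M1.modules_eq_of_locally_eq T V _ (fun U : S => inf_le_left) hcov' _ _ fun U => ?_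
  change M1.mres T _ ((Formal.smulMod A M a ≫ φ).app V m) = M1.mres T _ 0
  rw [← M1.app_mres, map_zero]
  change φ.app _ (multHom X (V ⊓ (U.1 : X.Opens)) a • M1.mres M (inf_le_left : V ⊓ (U.1 : X.Opens) ≤ V) m) = 0
  have hres : ∀ b : A, multHom X (V ⊓ (U.1 : X.Opens)) b =
      M1.ores (inf_le_right : V ⊓ (U.1 : X.Opens) ≤ _) (multHom X (U.1 : X.Opens) b) := fun b => by
    simp only [multHom, RingHom.comp_apply]
    exact ConcreteCategory.congr_hom (X.presheaf.map_comp (homOfLE (le_top : (U.1 : X.Opens) ≤ ⊤)).op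
      (homOfLE (inf_le_right : V ⊓ (U.1 : X.Opens) ≤ U.1)).op) _
  have hmem : multHom X (U.1 : X.Opens) a ∈ Ideal.span (multHom X (U.1 : X.Opens) '' (s U : Set A)) :=
    (hspan U).le (Ideal.mem_map_of_mem _ ha)
  have key : ∀ c ∈ Ideal.span (multHom X (U.1 : X.Opens) '' (s U : Set A)),
      φ.app (V ⊓ (U.1 : X.Opens)) ((M1.ores (inf_le_right : V ⊓ (U.1 : X.Opens) ≤ _) c) •
        M1.mres M (inf_le_left : V ⊓ (U.1 : X.Opens) ≤ V) m) = 0 := by
    intro c hc
    induction hc using Submodule.span_induction with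
    | mem c hc =>
      obtain ⟨b, hb, rfl⟩ := hc
      obtain ⟨i, hi⟩ := all.equivFin.symm.surjective ⟨b, Finset.mem_biUnion.2 ⟨U, Finset.mem_univ _, hb⟩⟩
      have h := hφ i
      dsimp only at h
      rw [hi] at h
      have h' : (Formal.smulMod A M b ≫ φ).app (V ⊓ (U.1 : X.Opens))
          (M1.mres M (inf_le_left : V ⊓ (U.1 : X.Opens) ≤ V) m) = 0 := by rw [h]; rfl
      exact (congrArg (fun c => φ.app (V ⊓ (U.1 : X.Opens)) (c • M1.mres M (inf_le_left : V ⊓ (U.1 : X.Opens) ≤ V) m))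
        (hres b)).symm.trans h' 
    | zero => rw [map_zero, zero_smul, map_zero]
    | add p q _ _ hp hq => rw [map_add, add_smul, map_add, hp, hq, add_zero]
    | smul r p _ hp => rw [smul_eq_mul, map_mul, mul_smul, Scheme.Modules.Hom.app_smul, hp, smul_zero]
  exact (congrArg (fun c => φ.app (V ⊓ (U.1 : X.Opens)) (c • M1.mres M (inf_le_left : V ⊓ (U.1 : X.Opens) ≤ V) m))
    (hres a)).trans (key _ hmem)

/-- Killed by a finite family of generators means killed by the ideal. -/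
theorem killedBy_of_family {L : Ideal A} {r : ℕ} {u : Fin r → A}
    (hu : ∀ {M T : X.Modules} (φ : M ⟶ T), (∀ i, Formal.smulMod A M (u i) ≫ φ = 0) →
      ∀ a ∈ L, Formal.smulMod A M a ≫ φ = 0)
    {M : X.Modules} (h : ∀ i, Formal.smulMod A M (u i) = 0) : Formal.KilledBy L M := fun a ha => by
  have := hu (𝟙 M) (fun i => by rw [h i, zero_comp]) a ha
  rwa [Category.comp_id] at this

/-- The kernel of reduction lifts along an epimorphism. -/
theorem lift_kernel_modI (L : Ideal A) {M N W : X.Modules} (p : M ⟶ N) [Epi p] (y : W ⟶ N)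
    (hy : y ≫ modIπ L N = 0) :
    ∃ (W' : X.Modules) (π : W' ⟶ W) (_ : Epi π) (z : W' ⟶ M), π ≫ y = z ≫ p ∧ z ≫ modIπ L M = 0 := by
  let i := kernel.ι (modIπ L M)
  let c := cokernel.π (i ≫ p)
  have hc : ∀ a ∈ L, Formal.smulMod A N a ≫ c = 0 := fun a ha => by
    rw [← cancel_epi p, ← smulMod_naturality_assoc, comp_zero,
      ← kernel.lift_ι (modIπ L M) _ ((isQuot_modIπ L M).smul a ha), Category.assoc, ← Category.assoc (kernel.ι _) p c, cokernel.condition, comp_zero]
  obtain ⟨g, hg⟩ := (isQuot_modIπ L N).desc c hc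
  have h1 : y ≫ c = 0 := by rw [← hg, reassoc_of% hy, zero_comp]
  obtain ⟨W', π, hπ, z, hz⟩ :=
    (ShortComplex.exact_cokernel (i ≫ p)).exact_up_to_refinements y h1
  exact ⟨W', π, hπ, z ≫ i, by simpa using hz, by simp [i]⟩

/-- Functoriality of `M / L M`. -/
def mapI (L : Ideal A) {M N : X.Modules} (f : M ⟶ N) : modI L M ⟶ modI L N :=
  ((isQuot_modIπ L M).desc_killed (f ≫ modIπ L N) (isQuot_modIπ L N).killed).choose

@[reassoc]
theorem π_mapI (L : Ideal A) {M N : X.Modules} (f : M ⟶ N) : modIπ L M ≫ mapI L f = f ≫ modIπ L N :=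
  ((isQuot_modIπ L M).desc_killed (f ≫ modIπ L N) (isQuot_modIπ L N).killed).choose_spec

@[reassoc]
theorem mapI_comp (L : Ideal A) {M N P : X.Modules} (f : M ⟶ N) (g : N ⟶ P) :
    mapI L f ≫ mapI L g = mapI L (f ≫ g) :=
  (isQuot_modIπ L M).hom_ext (by rw [π_mapI_assoc, π_mapI, π_mapI, Category.assoc])

theorem mapI_zero (L : Ideal A) {M N : X.Modules} : mapI L (0 : M ⟶ N) = 0 :=
  (isQuot_modIπ L M).hom_ext (by rw [π_mapI, zero_comp, comp_zero])

theorem mapI_add (L : Ideal A) {M N : X.Modules} (f g : M ⟶ N) : mapI L (f + g) = mapI L f + mapI L g :=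
  (isQuot_modIπ L M).hom_ext (by rw [π_mapI, Preadditive.comp_add, π_mapI, π_mapI, Preadditive.add_comp])

theorem mapI_id (L : Ideal A) (M : X.Modules) : mapI L (𝟙 M) = 𝟙 _ :=
  (isQuot_modIπ L M).hom_ext (by rw [π_mapI, Category.id_comp, Category.comp_id])

theorem tr_mapI (I : Ideal A) {M N : X.Modules} (f : M ⟶ N) (n : ℕ) :
    tr I M n ≫ mapI (I ^ (n + 1)) f = mapI (I ^ (n + 1 + 1)) f ≫ tr I N n :=
  (isQuot_modIπ _ M).hom_ext (by rw [← Category.assoc, π_tr, π_mapI, π_mapI_assoc, π_tr])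

theorem isQuot_tr (I : Ideal A) (E : X.Modules) (n : ℕ) : IsQuot (I ^ (n + 1)) (tr I E n) :=
  IsQuot.of_comp ((isQuot_modIπ _ E).of_eq (π_tr I E n).symm)

/-- The transition maps of the quotients of a module, between any two stages. -/
def trLE (I : Ideal A) (E : X.Modules) {n m : ℕ} (h : n ≤ m) :
    modI (I ^ (m + 1)) E ⟶ modI (I ^ (n + 1)) E :=
  ((isQuot_modIπ (I ^ (m + 1)) E).desc_killed (modIπ (I ^ (n + 1)) E)
    (killedBy_mono (Ideal.pow_le_pow_right (by omega)) (isQuot_modIπ _ _).killed)).choose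

@[reassoc]
theorem π_trLE (I : Ideal A) (E : X.Modules) {n m : ℕ} (h : n ≤ m) :
    modIπ (I ^ (m + 1)) E ≫ trLE I E h = modIπ (I ^ (n + 1)) E :=
  ((isQuot_modIπ (I ^ (m + 1)) E).desc_killed (modIπ (I ^ (n + 1)) E)
    (killedBy_mono (Ideal.pow_le_pow_right (by omega)) (isQuot_modIπ _ _).killed)).choose_spec

theorem tr_eq_trLE (I : Ideal A) (E : X.Modules) (n : ℕ) : tr I E n = trLE I E (Nat.le_succ n) :=
  (isQuot_modIπ _ E).hom_ext (by rw [π_tr, π_trLE])

@[reassoc]
theorem trLE_comp (I : Ideal A) (E : X.Modules) {n m k : ℕ} (h : n ≤ m) (h' : m ≤ k) :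
    trLE I E h' ≫ trLE I E h = trLE I E (h.trans h') :=
  (isQuot_modIπ _ E).hom_ext (by rw [π_trLE_assoc, π_trLE, π_trLE])

theorem isQuot_trLE (I : Ideal A) (E : X.Modules) {n m : ℕ} (h : n ≤ m) : IsQuot (I ^ (n + 1)) (trLE I E h) :=
  IsQuot.of_comp ((isQuot_modIπ _ E).of_eq (π_trLE I E h).symm)

theorem trLE_mapI (I : Ideal A) {M N : X.Modules} (f : M ⟶ N) {n m : ℕ} (h : n ≤ m) :
    trLE I M h ≫ mapI (I ^ (n + 1)) f = mapI (I ^ (m + 1)) f ≫ trLE I N h :=
  (isQuot_modIπ _ M).hom_ext (by rw [π_trLE_assoc, π_mapI, π_mapI_assoc, π_trLE])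

theorem fam_trLE {I : Ideal A} {G : ℕᵒᵖ ⥤ X.Modules} {E : X.Modules} {b : ∀ n, G.obj (op n) ⟶ modI (I ^ (n + 1)) E}
    (hb : IsFam b) {n m : ℕ} (h : n ≤ m) : gm G h ≫ b n = b m ≫ trLE I E h := by
  induction m, h using Nat.le_induction with
  | base =>
    rw [gm_refl, Category.id_comp, (isQuot_modIπ _ E).hom_ext (f := trLE I E le_rfl) (g := 𝟙 _)
      (by rw [π_trLE, Category.comp_id]), Category.comp_id]
  | succ m h ih =>
    rw [← gm_comp G h (Nat.le_succ m), Category.assoc, ih, ← Category.assoc, hb m, Category.assoc, tr_eq_trLE,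
      trLE_comp]

/-- Artin-Rees for the kernel of a map of coherent modules. -/
theorem exists_artinRees [IsNoetherian X] (I : Ideal A) {E P : X.Modules} (hE : Coh.IsCoh E) (hP : Coh.IsCoh P)
    (q : E ⟶ P) :
    ∃ d, ∀ n, kernel.ι (kernel.ι q ≫ modIπ (I ^ (n + d + 1)) E) ≫ modIπ (I ^ (n + 1)) (kernel q) = 0 := by
  obtain ⟨S, hS, hcov⟩ := M1.exists_finite_affine_iSup (X := X) (U := ⊤) (by simpa using isCompact_univ)
  have hK : Coh.IsCoh (kernel q) := M1.isCoh_kernel hE hP.1 q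
  have hloc : ∀ U : S, ∃ d, ∀ n, d ≤ n → ∀ s : Γ(kernel q, (U.1 : X.Opens)),
      (kernel.ι q).app _ s ∈ ((I.map (multHom X (U.1 : X.Opens))) ^ n • ⊤ : Submodule Γ(X, (U.1 : X.Opens)) Γ(E, (U.1 : X.Opens))) →
        s ∈ ((I.map (multHom X (U.1 : X.Opens))) ^ (n - d) • ⊤ : Submodule Γ(X, (U.1 : X.Opens)) Γ(kernel q, (U.1 : X.Opens))) := by
    rintro ⟨⟨U, hU⟩, hUS⟩
    haveI : IsNoetherianRing Γ(X, U) := IsLocallyNoetherian.component_noetherian ⟨U, hU⟩
    haveI := M1.finite_sections hE.1 hE.2 hU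
    let ιU : Γ(kernel q, U) →ₗ[Γ(X, U)] Γ(E, U) :=
      { toFun := (kernel.ι q).app U
        map_add' := map_add _
        map_smul' := fun r s => Scheme.Modules.Hom.app_smul _ r s }
    have hinj : Function.Injective ιU := M1.app_injective (kernel.ι q) U
    obtain ⟨d, hd⟩ := (I.map (multHom X U)).exists_pow_inf_eq_pow_smul (LinearMap.range ιU)
    refine ⟨d, fun n hn s hs => ?_⟩
    have h1 : ιU s ∈ (I.map (multHom X U)) ^ (n - d) •
        ((I.map (multHom X U)) ^ d • ⊤ ⊓ LinearMap.range ιU) := (hd n hn) ▸ ⟨hs, s, rfl⟩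
    have h2 : ιU s ∈ Submodule.map ιU ((I.map (multHom X U)) ^ (n - d) • ⊤ : Submodule _ _) := by
      rw [Submodule.map_smul'', Submodule.map_top]
      exact Submodule.smul_mono le_rfl inf_le_right h1
    obtain ⟨s', hs', e⟩ := h2
    exact hinj e ▸ hs'
  choose d hd using hloc
  haveI := hS.fintype
  refine ⟨Finset.univ.sup d, fun n => ?_⟩
  haveI : Coh.IsQCoh (kernel (kernel.ι q ≫ modIπ (I ^ (n + Finset.univ.sup d + 1)) E)) :=
    M1.isQCoh_kernel hK.1 (isQCoh_modI' hE.1) _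
  refine ModLimH13.hom_eq_zero_of_generators _ fun x => ?_
  obtain ⟨U, hU⟩ := TopologicalSpace.Opens.mem_iSup.1
    (show x ∈ (⨆ i : S, (i.1 : X.Opens)) by rw [← hcov]; trivial)
  refine ⟨(U.1 : X.Opens), Set.univ, hU, U.1.2, Submodule.span_univ, fun t _ => ?_⟩
  let s := (kernel.ι (kernel.ι q ≫ modIπ (I ^ (n + Finset.univ.sup d + 1)) E)).app (U.1 : X.Opens) t
  show (modIπ (I ^ (n + 1)) (kernel q)).app (U.1 : X.Opens) s = 0
  have h0 : (modIπ (I ^ (n + Finset.univ.sup d + 1)) E).app _ ((kernel.ι q).app (U.1 : X.Opens) s) = 0 :=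
    congrArg (fun φ => φ.app (U.1 : X.Opens) t) (kernel.condition (kernel.ι q ≫ modIπ _ E))
  have h1 := mem_of_app_eq_zero hE.1 (isQuot_modIπ _ E) U.1.2 _ h0
  have hdU : d U ≤ Finset.univ.sup d := Finset.le_sup (Finset.mem_univ U)
  rw [Ideal.map_pow] at h1
  have h2 := hd U _ (by omega) s h1
  refine app_eq_zero_of_mem' (L := I ^ (n + 1)) _ (isQuot_modIπ _ _).smul ?_
  rw [Ideal.map_pow]
  exact Submodule.smul_mono_left (Ideal.pow_le_pow_right (by omega)) h2

/-- The common kernel of a transition map and of a map to the quotients of a module is eventually zero. -/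
theorem exists_stableKernel [IsNoetherian X] (I : Ideal A) {F : ℕᵒᵖ ⥤ X.Modules} (hF : IsSys I F) {M : X.Modules}
    (hM : Coh.IsCoh M) (γ : ∀ n, F.obj (op n) ⟶ modI (I ^ (n + 1)) M) (hγ : IsFam γ) (hepi : ∀ n, Epi (γ n))
    (c : ℕ) (hk : ∀ n, Formal.KilledBy (I ^ c) (kernel (γ n))) :
    ∃ N, ∀ n, N ≤ n → ∀ {W : X.Modules} (y : W ⟶ F.obj (op (n + 1))),
      y ≫ gm F (Nat.le_succ n) = 0 → y ≫ γ (n + 1) = 0 → y = 0 := by
  obtain ⟨S, hS, hcov⟩ := M1.exists_finite_affine_iSup (X := X) (U := ⊤) (by simpa using isCompact_univ)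
  have hloc : ∀ U : S, ∃ N, ∀ n, N ≤ n → ∀ x : Γ(F.obj (op (n + 1)), (U.1 : X.Opens)),
      (gm F (Nat.le_succ n)).app _ x = 0 → (γ (n + 1)).app _ x = 0 → x = 0 := by
    rintro ⟨⟨U, hU⟩, hUS⟩
    haveI : IsNoetherianRing Γ(X, U) := IsLocallyNoetherian.component_noetherian ⟨U, hU⟩
    haveI := M1.finite_sections (hF.coh 0).1 (hF.coh 0).2 hU
    let lin : ∀ {P Q : X.Modules}, (P ⟶ Q) → (Γ(P, U) →ₗ[Γ(X, U)] Γ(Q, U)) := fun f =>
      { toFun := f.app U
        map_add' := map_add _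
        map_smul' := fun r s => Scheme.Modules.Hom.app_smul _ r s }
    have hzero : ∀ {L : Ideal A} {P : X.Modules}, Formal.KilledBy L P →
        ∀ a ∈ L.map (multHom X U), ∀ x : Γ(P, U), a • x = 0 := fun {L P} hP a ha x =>
      app_eq_zero_of_mem' (L := L) (𝟙 P) (fun b hb => by rw [hP b hb, zero_comp])
        (Submodule.smul_mem_smul ha (trivial : x ∈ (⊤ : Submodule Γ(X, U) Γ(P, U))))
    refine exists_stable (I.map (multHom X U)) (F := fun n => Γ(F.obj (op n), U))
      (fun n => lin (gm F (Nat.le_succ n)))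
      (fun n => by haveI := (hF.quot n).epi; exact M1.app_surjective_affine_of_isQCoh (hF.coh _).1 (hF.coh _).1 _ hU)
      (fun n x hx => ?_) (fun n a ha => ?_)
      (M := fun n => Γ(modI (I ^ (n + 1)) M, U)) (fun n => lin (tr I M n)) (fun n x hx => ?_) (fun n a ha => ?_)
      (fun n => lin (γ n))
      (fun n => by haveI := hepi n; exact M1.app_surjective_affine_of_isQCoh (hF.coh _).1 (isQCoh_modI' hM.1) _ hU)
      (fun n x => congrArg (fun φ => φ.app U x) (hγ n)) c (fun n a ha x hx => ?_)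
    · rw [← Ideal.map_pow]
      exact mem_of_app_eq_zero (hF.coh _).1 (hF.quot n) hU x hx
    · exact hzero (hF.killed n) a (by rwa [Ideal.map_pow])
    · rw [← Ideal.map_pow]
      exact mem_of_app_eq_zero (isQCoh_modI' hM.1) (isQuot_tr I M n) hU x hx
    · exact hzero (isQuot_modIπ _ M).killed a (by rwa [Ideal.map_pow])
    · rw [← Ideal.map_pow] at ha
      induction ha using Submodule.span_induction with
      | mem a ha =>
        obtain ⟨b, hb, rfl⟩ := ha
        haveI := hepi n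
        obtain ⟨g, hg⟩ := kernel_desc (γ n) (Formal.smulMod A (F.obj (op n)) b)
          (by rw [← smulMod_naturality, hk n b hb, zero_comp])
        show (Formal.smulMod A (F.obj (op n)) b).app U x = 0
        rw [← hg]
        show g.app U ((γ n).app U x) = 0
        rw [show (γ n).app U x = 0 from hx, map_zero]
      | zero => rw [zero_smul]
      | add p q _ _ hp hq => rw [add_smul, hp, hq, add_zero]
      | smul r p _ hp => rw [smul_eq_mul, mul_smul, hp, smul_zero]
  choose N hN using hloc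
  haveI := hS.fintype
  refine ⟨Finset.univ.sup N, fun n hn {W} y h1 h2 => ?_⟩
  let κ := kernel.ι (kernel.ι (gm F (Nat.le_succ n)) ≫ γ (n + 1))
  suffices hz : κ ≫ kernel.ι (gm F (Nat.le_succ n)) = 0 by
    rw [← kernel.lift_ι _ y h1, ← kernel.lift_ι (kernel.ι (gm F (Nat.le_succ n)) ≫ γ (n + 1)) (kernel.lift _ y h1)
      (by rw [kernel.lift_ι_assoc, h2]), Category.assoc, hz, comp_zero]
  haveI : Coh.IsQCoh (kernel (kernel.ι (gm F (Nat.le_succ n)) ≫ γ (n + 1))) :=
    M1.isQCoh_kernel (M1.isQCoh_kernel (hF.coh _).1 (hF.coh _).1 _) (isQCoh_modI' hM.1) _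
  refine ModLimH13.hom_eq_zero_of_generators _ fun x => ?_
  obtain ⟨U, hU⟩ := TopologicalSpace.Opens.mem_iSup.1
    (show x ∈ (⨆ i : S, (i.1 : X.Opens)) by rw [← hcov]; trivial)
  refine ⟨(U.1 : X.Opens), Set.univ, hU, U.1.2, Submodule.span_univ, fun t _ => ?_⟩
  refine hN U n ((Finset.le_sup (Finset.mem_univ U)).trans hn) _ ?_ ?_
  · exact congrArg (fun φ => φ.app (U.1 : X.Opens) t)
      (show (κ ≫ kernel.ι (gm F (Nat.le_succ n))) ≫ gm F (Nat.le_succ n) = 0 by
        rw [Category.assoc, kernel.condition, comp_zero])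
  · exact congrArg (fun φ => φ.app (U.1 : X.Opens) t)
      (show (κ ≫ kernel.ι (gm F (Nat.le_succ n))) ≫ γ (n + 1) = 0 by rw [Category.assoc, kernel.condition])

end Groth.Agent.FormalExtH7
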