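import Groth.Agent.Lib.FormalExtH7.Torsion
import Groth.Agent.Lib.LocCoh.GradedPoly27
import Mathlib.Data.Fin.Tuple.NatAntidiagonal

/-!
The map from `I^(n c') F` to a sum of copies of `F` attached to a graded map to a polynomial ring.
-/

set_option autoImplicit false
set_option linter.style.haveILetI false
set_option backward.isDefEq.respectTransparency false

universe u

open CategoryTheory CategoryTheory.Limits AlgebraicGeometry Opposite

noncomputable section

attribute [local instance] CategoryTheory.Abelian.hasFiniteBiproducts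

namespace Groth.Agent.FormalExtH7

open Groth.Agent.FormalH7 Groth.Agent.GExistH7

variable {A : Type u} [CommRing A] {r : ℕ}

section alg

open MvPolynomial

variable {I : Ideal A} {c : ℕ} (φ : Fin r → (↥(I ^ c) →ₗ[A] A))

theorem app_mem_pow (j : Fin r) {k : ℕ} (x : A) (hx : x ∈ I ^ (c + k)) (h : x ∈ I ^ c) : φ j ⟨x, h⟩ ∈ I ^ k := by
  have key : ∀ y ∈ I ^ k * I ^ c, ∃ h : y ∈ I ^ c, φ j ⟨y, h⟩ ∈ I ^ k := fun y hy =>
    Submodule.mul_induction_on hy
      (fun a ha b hb => ⟨Ideal.mul_mem_left _ a hb, by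
        rw [show (⟨a * b, Ideal.mul_mem_left _ a hb⟩ : ↥(I ^ c)) = a • ⟨b, hb⟩ from rfl, map_smul]
        exact Ideal.mul_mem_right _ _ ha⟩)
      fun a b ⟨ha, ha'⟩ ⟨hb, hb'⟩ => ⟨add_mem ha hb, by
        rw [show (⟨a + b, add_mem ha hb⟩ : ↥(I ^ c)) = ⟨a, ha⟩ + ⟨b, hb⟩ from rfl, map_add]
        exact add_mem ha' hb'⟩
  obtain ⟨_, h'⟩ := key x (by rw [← pow_add, add_comm]; exact hx)
  exact h'

theorem coeff_mem_pow {k : ℕ} (Φ : ℕ → A → MvPolynomial (Fin r) A)
    (hadd : ∀ n : ℕ, ∀ g ∈ I ^ (n * (c + k)), ∀ h ∈ I ^ (n * (c + k)), Φ n (g + h) = Φ n g + Φ n h)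
    (hmul : ∀ n m : ℕ, ∀ g ∈ I ^ (n * (c + k)), ∀ h ∈ I ^ (m * (c + k)), Φ (n + m) (g * h) = Φ n g * Φ m h)
    (h1 : ∀ (g : A) (hg : g ∈ I ^ (c + k)),
      Φ 1 g = ∑ j, MvPolynomial.C (φ j ⟨g, Ideal.pow_le_pow_right (Nat.le_add_right c k) hg⟩) * MvPolynomial.X j)
    (n : ℕ) (g : A) (hg : g ∈ I ^ ((n + 1) * (c + k))) (d : Fin r →₀ ℕ) : coeff d (Φ (n + 1) g) ∈ I ^ k := by
  suffices h : g ∈ I ^ ((n + 1) * (c + k)) ∧ Φ (n + 1) g ∈ (I ^ k).map (C : A →+* MvPolynomial (Fin r) A) from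
    MvPolynomial.mem_map_C_iff.1 h.2 d
  rw [Nat.succ_mul, pow_add] at hg
  refine Submodule.mul_induction_on hg (fun a ha b hb => ⟨?_, ?_⟩) fun a b ha hb => ⟨add_mem ha.1 hb.1, ?_⟩
  · rw [Nat.succ_mul, pow_add]; exact Ideal.mul_mem_mul ha hb
  · rw [hmul n 1 a ha b (by rwa [one_mul]), h1 b hb]
    exact Ideal.mul_mem_left _ _ (sum_mem fun j _ => Ideal.mul_mem_right _ _
      (Ideal.mem_map_of_mem _ (app_mem_pow φ j b hb _)))
  · rw [hadd _ a ha.1 b hb.1]; exact add_mem ha.2 hb.2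

theorem sum_antidiagonalTuple (f : Fin r → A) {n : ℕ} {P : MvPolynomial (Fin r) A} (hP : P.IsHomogeneous n) :
    ∑ e : ↥(Finset.Nat.antidiagonalTuple r n),
        (∏ j, f j ^ (e.1 j)) * coeff (Finsupp.equivFunOnFinite.symm e.1) P = aeval f P := by
  classical
  rw [Finset.sum_coe_sort (Finset.Nat.antidiagonalTuple r n)
      (fun e => (∏ j, f j ^ (e j)) * coeff (Finsupp.equivFunOnFinite.symm e) P), aeval_def, eval₂_eq']
  refine Eq.trans ?_ (Finset.sum_subset
    (s₁ := P.support) (s₂ := (Finset.Nat.antidiagonalTuple r n).map Finsupp.equivFunOnFinite.symm.toEmbedding)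
    (f := fun d => algebraMap A A (coeff d P) * ∏ i, f i ^ d i) (fun d hd => ?_) fun d _ hd => ?_).symm
  · rw [Finset.sum_map]
    exact Finset.sum_congr rfl fun e _ => mul_comm _ _
  · refine Finset.mem_map.2 ⟨⇑d, Finset.Nat.mem_antidiagonalTuple.2 ?_, Equiv.symm_apply_apply _ d⟩
    have h := hP (mem_support_iff.1 hd)
    rw [Finsupp.weight_apply, Finsupp.sum_fintype d (fun i c => c • (1 : Fin r → ℕ) i) (fun i => zero_smul ℕ _)] at h
    simpa using h
  · rw [notMem_support_iff.1 hd, map_zero, zero_mul]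

end alg

variable {X : Scheme.{u}} [X.Over (Spec (CommRingCat.of A))]

theorem smulMod_add (M : X.Modules) (a b : A) :
    Formal.smulMod A M (a + b) = Formal.smulMod A M a + Formal.smulMod A M b := by
  refine Scheme.Modules.hom_ext _ _ fun U => ?_
  ext s
  change multHom X U (a + b) • s = multHom X U a • s + multHom X U b • s
  rw [map_add, add_smul]

theorem smulMod_sum (M : X.Modules) {ι : Type*} [Fintype ι] (a : ι → A) :
    Formal.smulMod A M (∑ i, a i) = ∑ i, Formal.smulMod A M (a i) :=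
  map_sum (AddMonoidHom.mk' (fun a => Formal.smulMod A M a) (smulMod_add M)) a Finset.univ

/-- The image of multiplication by an ideal, as a quotient of copies of the module. -/
def idealσ (I : Ideal A) (N : ℕ) (M : X.Modules) : (∐ fun _ : ↥(I ^ N) => M) ⟶ Formal2.idealPowMod I N M :=
  kernel.lift (Formal.modPowπ I N M) (Formal.smulFamily (I ^ N) M) (cokernel.condition _)

theorem idealσ_ι (I : Ideal A) (N : ℕ) (M : X.Modules) :
    idealσ I N M ≫ Formal2.idealPowModι I N M = Formal.smulFamily (I ^ N) M := kernel.lift_ι _ _ _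

instance epi_idealσ (I : Ideal A) (N : ℕ) (M : X.Modules) : Epi (idealσ I N M) :=
  inferInstanceAs (Epi (Abelian.factorThruImage (Formal.smulFamily (I ^ N) M)))

/-- Maps out of `I^N M` are prescribed on copies of `M`. -/
theorem existsUnique_idealPow_desc (I : Ideal A) (N : ℕ) {M T : X.Modules} (τ : ↥(I ^ N) → (M ⟶ T))
    (h : ∀ {W : X.Modules} (δ : W ⟶ ∐ fun _ : ↥(I ^ N) => M),
      δ ≫ Formal.smulFamily (I ^ N) M = 0 → δ ≫ Sigma.desc τ = 0) :
    ∃ ψ : Formal2.idealPowMod I N M ⟶ T,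
      (∀ (g : A) (hg : g ∈ I ^ N) (γ : M ⟶ Formal2.idealPowMod I N M),
        γ ≫ Formal2.idealPowModι I N M = Formal.smulMod A M g → γ ≫ ψ = τ ⟨g, hg⟩) ∧
      idealσ I N M ≫ ψ = Sigma.desc τ ∧
      ∀ ψ' : Formal2.idealPowMod I N M ⟶ T, (∀ (g : A) (hg : g ∈ I ^ N) (γ : M ⟶ Formal2.idealPowMod I N M),
        γ ≫ Formal2.idealPowModι I N M = Formal.smulMod A M g → γ ≫ ψ' = τ ⟨g, hg⟩) → ψ' = ψ := by
  have h0 : kernel.ι (idealσ I N M) ≫ Sigma.desc τ = 0 := h _ (by
    rw [← idealσ_ι, ← Category.assoc, kernel.condition, zero_comp])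
  have hγ : ∀ g : ↥(I ^ N), (Sigma.ι (fun _ : ↥(I ^ N) => M) g ≫ idealσ I N M) ≫ Formal2.idealPowModι I N M =
      Formal.smulMod A M g.1 := fun g => by
    rw [Category.assoc, idealσ_ι]
    exact Sigma.ι_desc _ _
  refine ⟨Abelian.epiDesc (idealσ I N M) (Sigma.desc τ) h0, fun g hg γ hγg => ?_, Abelian.comp_epiDesc _ _ _,
    fun ψ' hψ' => ?_⟩
  · rw [(cancel_mono (Formal2.idealPowModι I N M)).1 (hγg.trans (hγ ⟨g, hg⟩).symm), Category.assoc,
      Abelian.comp_epiDesc]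
    exact Sigma.ι_desc _ _
  · rw [← cancel_epi (idealσ I N M), Abelian.comp_epiDesc]
    refine Sigma.hom_ext _ _ fun g => ?_
    rw [Sigma.ι_desc, ← Category.assoc]
    exact hψ' g.1 g.2 _ (hγ g)

/-- The graded map lifts to the limit of a coherent formal module. -/
theorem exists_graded_map [IsNoetherian X] (f : Fin r → A) (I : Ideal A) (c : ℕ)
    (φ : Fin r → (↥(I ^ c) →ₗ[A] A)) (hφ : ∀ x : ↥(I ^ c), (x : A) = ∑ j, f j * φ j x)
    (G : ℕᵒᵖ ⥤ X.Modules) (hG : Formal.IsCohFormal I G) :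
    ∃ c' : ℕ, ∃ hcc' : c ≤ c', ∀ Φ : ℕ → A → MvPolynomial (Fin r) A,
      ((∀ n : ℕ, ∀ g ∈ I ^ (n * c'), ∀ h ∈ I ^ (n * c'), Φ n (g + h) = Φ n g + Φ n h) ∧
        (∀ (n : ℕ) (a : A), ∀ g ∈ I ^ (n * c'), Φ n (a * g) = a • Φ n g) ∧
        (∀ n : ℕ, ∀ g ∈ I ^ (n * c'), (Φ n g).IsHomogeneous n) ∧
        (∀ n m : ℕ, ∀ g ∈ I ^ (n * c'), ∀ h ∈ I ^ (m * c'), Φ (n + m) (g * h) = Φ n g * Φ m h) ∧
        (∀ a : A, Φ 0 a = MvPolynomial.C a) ∧
        (∀ (g : A) (hg : g ∈ I ^ c'),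
          Φ 1 g = ∑ j, MvPolynomial.C (φ j ⟨g, Ideal.pow_le_pow_right hcc' hg⟩) * MvPolynomial.X j)) →
      ∀ n : ℕ, ∃ ΦF : (Formal2.idealPowMod I (n * c') (limit G)) ⟶
          ⨁ (fun _ : ↥(Finset.Nat.antidiagonalTuple r n) ↦ (limit G)),
        (∀ g ∈ I ^ (n * c'), ∀ γ : (limit G) ⟶ (Formal2.idealPowMod I (n * c') (limit G)),
          γ ≫ Formal2.idealPowModι I (n * c') (limit G) = Formal.smulMod A (limit G) g →
            γ ≫ ΦF = biproduct.lift (fun e : ↥(Finset.Nat.antidiagonalTuple r n) ↦ Formal.smulMod A (limit G)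
              (MvPolynomial.coeff (Finsupp.equivFunOnFinite.symm e.1) (Φ n g)))) ∧
        ΦF ≫ biproduct.desc (fun e : ↥(Finset.Nat.antidiagonalTuple r n) ↦
            Formal.smulMod A (limit G) (∏ j, f j ^ (e.1 j))) = Formal2.idealPowModι I (n * c') (limit G) ∧
        (∀ ΦF' : (Formal2.idealPowMod I (n * c') (limit G)) ⟶
            ⨁ (fun _ : ↥(Finset.Nat.antidiagonalTuple r n) ↦ (limit G)),
          (∀ g ∈ I ^ (n * c'), ∀ γ : (limit G) ⟶ (Formal2.idealPowMod I (n * c') (limit G)),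
            γ ≫ Formal2.idealPowModι I (n * c') (limit G) = Formal.smulMod A (limit G) g →
              γ ≫ ΦF' = biproduct.lift (fun e : ↥(Finset.Nat.antidiagonalTuple r n) ↦ Formal.smulMod A (limit G)
                (MvPolynomial.coeff (Finsupp.equivFunOnFinite.symm e.1) (Φ n g)))) → ΦF' = ΦF) := by
  obtain ⟨N, hN⟩ := exists_limit_torsion I (isSys_of_isCohFormal hG)
  have hcc' : c ≤ c + (N + 1) := Nat.le_add_right _ _
  refine ⟨c + (N + 1), hcc', ?_⟩
  rintro Φ ⟨hadd, hsmul, hhom, hmul, hzero, hone⟩ n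
  let φ' : Fin r → (↥(I ^ (c + (N + 1))) →ₗ[A] A) := fun j =>
    (φ j).comp (Submodule.inclusion (Ideal.pow_le_pow_right hcc'))
  have heval : ∀ g ∈ I ^ (n * (c + (N + 1))), MvPolynomial.aeval f (Φ n g) = g := fun g hg => by
    rw [LocCohLib.eq_Φ φ' Φ hadd hmul hzero hone n g hg]
    exact LocCohLib.aeval_Φ φ' f (fun x => hφ ⟨x.1, Ideal.pow_le_pow_right hcc' x.2⟩) n g hg
  let τ : ↥(I ^ (n * (c + (N + 1)))) → ((limit G) ⟶ ⨁ (fun _ : ↥(Finset.Nat.antidiagonalTuple r n) ↦ (limit G))) :=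
    fun g => biproduct.lift (fun e : ↥(Finset.Nat.antidiagonalTuple r n) ↦
      Formal.smulMod A (limit G) (MvPolynomial.coeff (Finsupp.equivFunOnFinite.symm e.1) (Φ n g.1)))
  have hκ : ∀ {W : X.Modules} (δ : W ⟶ ∐ fun _ : ↥(I ^ (n * (c + (N + 1)))) => limit G),
      δ ≫ Formal.smulFamily (I ^ (n * (c + (N + 1)))) (limit G) = 0 → δ ≫ Sigma.desc τ = 0 := by
    intro W δ hδ
    refine biproduct.hom_ext _ _ fun e => ?_
    rw [zero_comp, Category.assoc]
    let d : Fin r →₀ ℕ := Finsupp.equivFunOnFinite.symm e.1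
    let co : ↥(I ^ (n * (c + (N + 1)))) → A := fun g => MvPolynomial.coeff d (Φ n g.1)
    have hπ : Sigma.desc τ ≫ biproduct.π _ e = Sigma.desc fun g => Formal.smulMod A (limit G) (co g) :=
      Sigma.hom_ext _ _ fun g => by rw [← Category.assoc, Sigma.ι_desc, Sigma.ι_desc, biproduct.lift_π]
    rw [hπ]
    rcases n with _ | n
    · have he : d = 0 := by
        have h := Finset.Nat.mem_antidiagonalTuple.1 e.2
        ext j
        simpa [d] using (Finset.sum_eq_zero_iff.1 h) j (Finset.mem_univ j)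
      have hco : (Sigma.desc fun g => Formal.smulMod A (limit G) (co g)) =
          Formal.smulFamily (I ^ (0 * (c + (N + 1)))) (limit G) :=
        Sigma.hom_ext _ _ fun g => by
          rw [Sigma.ι_desc, Formal.smulFamily, Sigma.ι_desc]
          show Formal.smulMod A (limit G) (MvPolynomial.coeff d (Φ 0 g.1)) = _
          rw [hzero, he, MvPolynomial.coeff_zero_C]
      rw [hco, hδ]
    refine hN ((n + 1) * (c + (N + 1))) _ (fun h hh => ?_) ?_
    · have hcomm : (Sigma.desc fun g => Formal.smulMod A (limit G) (co g)) ≫ Formal.smulMod A (limit G) h =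
          Formal.smulFamily (I ^ ((n + 1) * (c + (N + 1)))) (limit G) ≫ Formal.smulMod A (limit G) (co ⟨h, hh⟩) :=
        Sigma.hom_ext _ _ fun g => by
          rw [Formal.smulFamily, ← Category.assoc, ← Category.assoc, Sigma.ι_desc, Sigma.ι_desc, ← smulMod_mul,
            ← smulMod_mul]
          congr 1
          show h * MvPolynomial.coeff d (Φ (n + 1) g.1) = MvPolynomial.coeff d (Φ (n + 1) h) * g.1
          refine Eq.trans ?_ (mul_comm g.1 _)
          exact (MvPolynomial.coeff_smul d h _).symm.trans ((congrArg (MvPolynomial.coeff d)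
            (((hsmul _ h _ g.2).symm.trans (congrArg (Φ _) (mul_comm h g.1))).trans (hsmul _ g.1 _ hh))).trans
            (MvPolynomial.coeff_smul d g.1 _))
      rw [Category.assoc, hcomm, ← Category.assoc, hδ, zero_comp]
    · have hz : (Sigma.desc fun g => Formal.smulMod A (limit G) (co g)) ≫ limit.π G (op N) = 0 :=
        Sigma.hom_ext _ _ fun g => by
          rw [comp_zero, ← Category.assoc, Sigma.ι_desc, smulMod_naturality,
            hG.2.1 N _ (coeff_mem_pow φ Φ hadd hmul hone n g.1 g.2 d), comp_zero]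
      rw [Category.assoc, hz, comp_zero]
  obtain ⟨ψ, hψ1, hψ2, hψ3⟩ := existsUnique_idealPow_desc I (n * (c + (N + 1))) τ hκ
  refine ⟨ψ, fun g hg γ hγ => hψ1 g hg γ hγ, ?_, fun ψ' h' => hψ3 ψ' fun g hg γ hγ => h' g hg γ hγ⟩
  rw [← cancel_epi (idealσ I _ (limit G)), idealσ_ι, reassoc_of% hψ2]
  refine Sigma.hom_ext _ _ fun g => ?_
  rw [← Category.assoc, Sigma.ι_desc, biproduct.lift_desc]
  simp only [← smulMod_mul]
  rw [← smulMod_sum, sum_antidiagonalTuple f (hhom n g.1 g.2), heval g.1 g.2]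
  simp only [Formal.smulFamily, Sigma.ι_desc]

end Groth.Agent.FormalExtH7
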