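import Mathlib.RingTheory.Filtration
import Mathlib.Algebra.Module.Projective
import Mathlib.RingTheory.Finiteness.Cardinality

/-!
Stabilisation of the kernels of a map from a system to the quotients of a finite module.
-/

set_option autoImplicit false

universe u v

namespace Groth.Agent.FormalExtH7

variable {B : Type u} [CommRing B] (K : Ideal B)

/-- A surjective system with kernels `K^(n+1)` is generated by compatible lifts of generators. -/
theorem exists_presentation {F : ℕ → Type v} [∀ n, AddCommGroup (F n)] [∀ n, Module B (F n)]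
    [Module.Finite B (F 0)] (t : ∀ n, F (n + 1) →ₗ[B] F n) (ht : ∀ n, Function.Surjective (t n))
    (hker : ∀ n (x : F (n + 1)), t n x = 0 → x ∈ (K ^ (n + 1) • ⊤ : Submodule B (F (n + 1))))
    (hk : ∀ n, ∀ a ∈ K ^ (n + 1), ∀ x : F n, a • x = 0) :
    ∃ (r : ℕ) (φ : ∀ n, (Fin r → B) →ₗ[B] F n), (∀ n, Function.Surjective (φ n)) ∧
      ∀ n m, t n (φ (n + 1) m) = φ n m := by
  obtain ⟨r, f, hf⟩ := Module.Finite.exists_fin' B (F 0)
  have hl : ∀ (n : ℕ) (g : (Fin r → B) →ₗ[B] F n), ∃ g' : (Fin r → B) →ₗ[B] F (n + 1), t n ∘ₗ g' = g :=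
    fun n g => Module.projective_lifting_property (t n) g (ht n)
  choose l hl using hl
  let φ : ∀ n, (Fin r → B) →ₗ[B] F n := fun n => Nat.rec f (fun k g => l k g) n
  have hc : ∀ n m, t n (φ (n + 1) m) = φ n m := fun n m => LinearMap.congr_fun (hl n (φ n)) m
  refine ⟨r, φ, fun n => ?_, hc⟩
  induction n with
  | zero => exact hf
  | succ n ih =>
    have hsup : ∀ x : F (n + 1), x ∈ LinearMap.range (φ (n + 1)) ⊔ (K ^ (n + 1) • ⊤ : Submodule B (F (n + 1))) := by
      intro x
      obtain ⟨m, hm⟩ := ih (t n x)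
      refine Submodule.mem_sup.2 ⟨φ (n + 1) m, ⟨m, rfl⟩, x - φ (n + 1) m, hker n _ ?_, add_sub_cancel _ _⟩
      rw [map_sub, hc, hm, sub_self]
    have h2 : ∀ y ∈ (K ^ (n + 1) • ⊤ : Submodule B (F (n + 1))), y ∈ LinearMap.range (φ (n + 1)) := by
      intro y hy
      refine Submodule.smul_induction_on hy (fun a ha x _ => ?_) fun a b => add_mem
      obtain ⟨_, ⟨m, rfl⟩, z, hz, rfl⟩ := Submodule.mem_sup.1 (hsup x)
      have hz0 : a • z = 0 := by
        refine Submodule.smul_induction_on hz (fun b hb w _ => ?_) fun p q hp hq => by rw [smul_add, hp, hq, add_zero]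
        rw [← mul_smul]
        refine hk (n + 1) _ ?_ w
        exact Ideal.pow_le_pow_right (by omega : n + 1 + 1 ≤ n + 1 + (n + 1)) (pow_add K _ _ ▸ Ideal.mul_mem_mul ha hb)
      exact ⟨a • m, by rw [map_smul, smul_add, hz0, add_zero]⟩
    intro x
    obtain ⟨p, hp, z, hz, rfl⟩ := Submodule.mem_sup.1 (hsup x)
    exact add_mem hp (h2 z hz)

/-- The intersection of the kernel of `γ` and of the transition map is eventually zero. -/
theorem exists_stable {F : ℕ → Type v} [∀ n, AddCommGroup (F n)] [∀ n, Module B (F n)] [IsNoetherianRing B]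
    [Module.Finite B (F 0)] (t : ∀ n, F (n + 1) →ₗ[B] F n) (ht : ∀ n, Function.Surjective (t n))
    (hker : ∀ n (x : F (n + 1)), t n x = 0 → x ∈ (K ^ (n + 1) • ⊤ : Submodule B (F (n + 1))))
    (hk : ∀ n, ∀ a ∈ K ^ (n + 1), ∀ x : F n, a • x = 0)
    {M : ℕ → Type v} [∀ n, AddCommGroup (M n)] [∀ n, Module B (M n)] (s : ∀ n, M (n + 1) →ₗ[B] M n)
    (hs : ∀ n (x : M (n + 1)), s n x = 0 → x ∈ (K ^ (n + 1) • ⊤ : Submodule B (M (n + 1))))
    (hMk : ∀ n, ∀ a ∈ K ^ (n + 1), ∀ x : M n, a • x = 0)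
    (γ : ∀ n, F n →ₗ[B] M n) (hγ : ∀ n, Function.Surjective (γ n))
    (hcomp : ∀ n x, γ n (t n x) = s n (γ (n + 1) x))
    (c : ℕ) (hc : ∀ n, ∀ a ∈ K ^ c, ∀ x : F n, γ n x = 0 → a • x = 0) :
    ∃ N, ∀ n, N ≤ n → ∀ x : F (n + 1), t n x = 0 → γ (n + 1) x = 0 → x = 0 := by
  obtain ⟨r, φ, hφ, hφc⟩ := exists_presentation K t ht hker hk
  let D : K.Filtration (Fin r → B) :=
    { N := fun n => (K ^ n • ⊤ : Submodule B (Fin r → B)) ⊓ LinearMap.ker (γ n ∘ₗ φ n)
      mono := fun n m ⟨h1, h2⟩ => by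
        refine ⟨Submodule.smul_mono_left (Ideal.pow_le_pow_right (Nat.le_succ n)) h1, ?_⟩
        change γ n (φ n m) = 0
        rw [← hφc, hcomp, show γ (n + 1) (φ (n + 1) m) = 0 from h2, map_zero]
      smul_le := fun n => Submodule.smul_le.2 fun a ha m hm => by
        obtain ⟨h1, h2⟩ := hm
        refine ⟨?_, ?_⟩
        · rw [pow_succ', ← smul_eq_mul, Submodule.smul_assoc]
          exact Submodule.smul_mem_smul ha h1
        · change γ (n + 1) (φ (n + 1) (a • m)) = 0
          have h3 := hs n _ (show s n (γ (n + 1) (φ (n + 1) m)) = 0 by rw [← hcomp, hφc]; exact h2)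
          rw [map_smul, map_smul]
          refine Submodule.smul_induction_on h3 (fun b hb x _ => ?_) fun p q hp hq => by rw [smul_add, hp, hq, add_zero]
          rw [← mul_smul]
          exact hMk (n + 1) _ (pow_succ' K (n + 1) ▸ Ideal.mul_mem_mul ha hb) x }
  obtain ⟨d, hd⟩ := (Ideal.Filtration.Stable.of_le (Ideal.stableFiltration_stable K ⊤)
    (F' := D) (fun n => inf_le_left)).exists_pow_smul_eq
  refine ⟨d + c, fun n hn x htx hγx => ?_⟩
  have hx : x ∈ Submodule.map (φ (n + 1)) ((K ^ (n + 1) • ⊤ : Submodule B (Fin r → B))) := by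
    rw [Submodule.map_smul'', Submodule.map_top, LinearMap.range_eq_top.2 (hφ (n + 1))]
    exact hker n x htx
  obtain ⟨m, hm, rfl⟩ := hx
  have hmD : m ∈ D.N (n + 1) := ⟨hm, hγx⟩

  have hdesc : ∀ k m', γ d (φ d m') = 0 → ∀ a ∈ K ^ (k + 1), c ≤ k + 1 → a • φ (d + (k + 1)) m' = 0 := by
    intro k m' hm' a ha hck
    have h3 : ∀ j, γ (d + j) (φ (d + j) m') ∈ (K ^ (d + 1) • ⊤ : Submodule B (M (d + j))) := by
      intro j
      induction j with
      | zero =>
        rw [show γ (d + 0) (φ (d + 0) m') = 0 from hm']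
        exact zero_mem _
      | succ j ih =>
        have hmap : γ (d + j) (φ (d + j) m') ∈
            Submodule.map (s (d + j)) (K ^ (d + 1) • ⊤ : Submodule B (M (d + j + 1))) := by
          rw [Submodule.map_smul'']
          refine Submodule.smul_mono le_rfl ?_ ih
          intro y _
          obtain ⟨z, rfl⟩ := hγ _ y
          obtain ⟨z', rfl⟩ := ht _ z
          exact ⟨γ _ z', trivial, (hcomp _ _).symm⟩
        obtain ⟨w, hw, hwe⟩ := hmap
        have h4 := hs _ (γ (d + j + 1) (φ (d + j + 1) m') - w) (by rw [map_sub, ← hcomp, hφc, hwe, sub_self])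
        have h5 := Submodule.smul_mono_left (N := (⊤ : Submodule B (M (d + j + 1))))
          (Ideal.pow_le_pow_right (I := K) (show d + 1 ≤ d + j + 1 by omega)) h4
        have h6 := add_mem h5 hw
        rw [sub_add_cancel] at h6
        exact h6
    have h6 : γ (d + (k + 1)) (φ (d + (k + 1)) m') ∈
        Submodule.map (γ (d + (k + 1))) (K ^ (d + 1) • ⊤ : Submodule B (F (d + (k + 1)))) := by
      rw [Submodule.map_smul'', Submodule.map_top, LinearMap.range_eq_top.2 (hγ _)]
      exact h3 (k + 1)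
    obtain ⟨y, hy, hye⟩ := h6
    have h7 := hc _ a (Ideal.pow_le_pow_right hck ha) (φ (d + (k + 1)) m' - y) (by rw [map_sub, hye, sub_self])
    rw [smul_sub, sub_eq_zero] at h7
    rw [h7]
    refine Submodule.smul_induction_on hy (fun b hb z _ => ?_) fun p q hp hq => by rw [smul_add, hp, hq, add_zero]
    rw [← mul_smul]
    exact hk _ _ (Ideal.pow_le_pow_right (by omega : d + (k + 1) + 1 ≤ (k + 1) + (d + 1))
      (pow_add K _ _ ▸ Ideal.mul_mem_mul ha hb)) z
  obtain ⟨k, rfl⟩ : ∃ k, n = d + k := ⟨n - d, by omega⟩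
  rw [show d + k + 1 = d + (k + 1) from add_assoc _ _ _, hd (k + 1)] at hmD
  refine Submodule.smul_induction_on hmD (fun a ha m' hm' => ?_) fun p q hp hq => by rw [map_add, hp, hq, add_zero]
  rw [map_smul]
  exact hdesc k m' hm'.2 a ha (by omega)

end Groth.Agent.FormalExtH7
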