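import Groth.Agent.Lib.FormalExtH7.Left
import Groth.Agent.Lib.CohGab13.Basic

/-!
Multiplication by elements of a product ideal factors backwards through a map with killed kernel and cokernel;
finite powers of a module.
-/

set_option autoImplicit false
set_option linter.style.haveILetI false
set_option backward.isDefEq.respectTransparency false

universe u

open CategoryTheory CategoryTheory.Limits AlgebraicGeometry Opposite

noncomputable section

namespace Groth.Agent.FormalExtH7

open Groth.Agent.FormalH7 Groth.Agent.GExistH7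

variable {A : Type u} [CommRing A] {X : Scheme.{u}} [X.Over (Spec (CommRingCat.of A))]

theorem mapI_smulMod (L : Ideal A) (M : X.Modules) (a : A) :
    mapI L (Formal.smulMod A M a) = Formal.smulMod A (modI L M) a :=
  (isQuot_modIπ L M).hom_ext (by rw [π_mapI, smulMod_naturality])

theorem mapI_sum (L : Ideal A) {M N : X.Modules} {ι : Type*} (s : Finset ι) (f : ι → (M ⟶ N)) :
    mapI L (∑ i ∈ s, f i) = ∑ i ∈ s, mapI L (f i) := by
  classical
  induction s using Finset.induction_on with
  | empty => rw [Finset.sum_empty, Finset.sum_empty, mapI_zero]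
  | insert a s ha ih => rw [Finset.sum_insert ha, Finset.sum_insert ha, mapI_add, ih]

instance : HasFiniteBiproducts X.Modules := Abelian.hasFiniteBiproducts

/-- A finite power. -/
abbrev powM (G : X.Modules) (r : ℕ) : X.Modules := ⨁ fun _ : Fin r => G

theorem isCoh_powM [IsNoetherian X] {G : X.Modules} (hG : Coh.IsCoh G) (r : ℕ) : Coh.IsCoh (powM G r) :=
  CohFound.isCoh_of_iso (biproduct.isoCoproduct _).symm (CohGab13.isCoh_sigma hG r)

theorem powM_ext {G W : X.Modules} (L : Ideal A) {r : ℕ} (y : W ⟶ modI L (powM G r))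
    (h : ∀ i, y ≫ mapI L (biproduct.π (fun _ : Fin r => G) i) = 0) : y = 0 := by
  rw [← Category.comp_id y, ← mapI_id, ← biproduct.total, mapI_sum, Preadditive.comp_sum]
  refine Finset.sum_eq_zero fun i _ => ?_
  rw [← mapI_comp, reassoc_of% (h i), zero_comp]

/-- The map to a power of the quotient with given components. -/
def powLift (L : Ideal A) {G W : X.Modules} {r : ℕ} (f : Fin r → (W ⟶ modI L G)) : W ⟶ modI L (powM G r) :=
  ∑ i, f i ≫ mapI L (biproduct.ι (fun _ : Fin r => G) i)

@[reassoc]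
theorem powLift_π (L : Ideal A) {G W : X.Modules} {r : ℕ} (f : Fin r → (W ⟶ modI L G)) (j : Fin r) :
    powLift L f ≫ mapI L (biproduct.π (fun _ : Fin r => G) j) = f j := by
  rw [powLift, Preadditive.sum_comp, Finset.sum_eq_single j (fun i _ hi => ?_) (by simp)]
  · rw [Category.assoc, mapI_comp, biproduct.ι_π_self, mapI_id, Category.comp_id]
  · rw [Category.assoc, mapI_comp, biproduct.ι_π_ne _ hi, mapI_zero, comp_zero]

/-- Both composites with a family of maps in the other direction are multiplication by `u`. -/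
def HasBack (I : Ideal A) {G : X.Modules} {F : ℕᵒᵖ ⥤ X.Modules} (α : ∀ n, modI (I ^ (n + 1)) G ⟶ F.obj (op n))
    (u : A) : Prop :=
  ∃ ψ : ∀ n, F.obj (op n) ⟶ modI (I ^ (n + 1)) G, IsFam ψ ∧
    ∀ n, α n ≫ ψ n = Formal.smulMod A _ u ∧ ψ n ≫ α n = Formal.smulMod A _ u

theorem hasBack_mul {I : Ideal A} {G : X.Modules} {F : ℕᵒᵖ ⥤ X.Modules}
    (α : ∀ n, modI (I ^ (n + 1)) G ⟶ F.obj (op n)) (hα : ∀ n, tr I G n ≫ α n = α (n + 1) ≫ gm F (Nat.le_succ n))
    {a c : A} (ha : ∀ n, Formal.smulMod A (cokernel (α n)) a = 0)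
    (hc : ∀ n, Formal.smulMod A (kernel (α n)) c = 0) : HasBack I α (a * c) := by
  have hj : ∀ n, ∃ j : F.obj (op n) ⟶ Abelian.image (α n),
      j ≫ Abelian.image.ι (α n) = Formal.smulMod A _ a := fun n =>
    ⟨kernel.lift _ (Formal.smulMod A _ a) (by rw [smulMod_naturality, ha n, comp_zero]), kernel.lift_ι _ _ _⟩
  choose j hj using hj
  have hg : ∀ n, ∃ g : Abelian.image (α n) ⟶ modI (I ^ (n + 1)) G,
      Abelian.factorThruImage (α n) ≫ g = Formal.smulMod A _ c := fun n => by
    refine kernel_desc (Abelian.factorThruImage (α n)) _ ?_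
    have h : kernel.ι (Abelian.factorThruImage (α n)) ≫ α n = 0 := by
      conv_lhs => arg 2; rw [← Abelian.image.fac (α n)]
      rw [kernel.condition_assoc, zero_comp]
    rw [← kernel.lift_ι (α n) _ h, Category.assoc, ← smulMod_naturality, hc n, zero_comp, comp_zero]
  choose g hg using hg
  have hgα : ∀ n, g n ≫ α n = Abelian.image.ι (α n) ≫ Formal.smulMod A _ c := fun n => by
    rw [← cancel_epi (Abelian.factorThruImage (α n)), reassoc_of% (hg n), smulMod_naturality,
      ← Category.assoc (Abelian.factorThruImage (α n)), Abelian.image.fac]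
  refine ⟨fun n => j n ≫ g n, fun n => ?_, fun n => ⟨?_, ?_⟩⟩
  · obtain ⟨W, π, hπ, z, hz⟩ :=
      surjective_up_to_refinements_of_epi (Abelian.factorThruImage (α (n + 1))) (j (n + 1))
    have h1 : π ≫ gm F (Nat.le_succ n) ≫ j n = z ≫ tr I G n ≫ Abelian.factorThruImage (α n) := by
      rw [← cancel_mono (Abelian.image.ι (α n))]
      simp only [Category.assoc, hj, Abelian.image.fac, hα]
      rw [← smulMod_naturality, ← hj (n + 1)]
      simp only [Category.assoc]
      rw [reassoc_of% hz, reassoc_of% (Abelian.image.fac (α (n + 1)))]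
    rw [← cancel_epi π]
    show π ≫ gm F (Nat.le_succ n) ≫ j n ≫ g n = π ≫ (j (n + 1) ≫ g (n + 1)) ≫ tr I G n
    rw [reassoc_of% h1, hg, Category.assoc, reassoc_of% hz, reassoc_of% (hg (n + 1)), smulMod_naturality]
  · have h : α n ≫ j n = Formal.smulMod A _ a ≫ Abelian.factorThruImage (α n) := by
      rw [← cancel_mono (Abelian.image.ι (α n)), Category.assoc, hj, Category.assoc, Abelian.image.fac,
        smulMod_naturality]
    rw [reassoc_of% h, hg, smulMod_mul']
  · rw [Category.assoc, hgα, reassoc_of% (hj n), smulMod_mul']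

theorem hasBack_of_mem_mul {I L : Ideal A} {G : X.Modules} {F : ℕᵒᵖ ⥤ X.Modules}
    (α : ∀ n, modI (I ^ (n + 1)) G ⟶ F.obj (op n)) (hα : ∀ n, tr I G n ≫ α n = α (n + 1) ≫ gm F (Nat.le_succ n))
    (hk : ∀ n, Formal.KilledBy L (kernel (α n))) (hc : ∀ n, Formal.KilledBy L (cokernel (α n))) {u : A}
    (hu : u ∈ L * L) : HasBack I α u := by
  refine Submodule.mul_induction_on hu (fun a ha c hc' => hasBack_mul α hα (fun n => hc n a ha)
    fun n => hk n c hc') ?_
  rintro x y ⟨ψ, hψ, hψe⟩ ⟨φ, hφ, hφe⟩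
  refine ⟨fun n => ψ n + φ n, fun n => ?_, fun n => ⟨?_, ?_⟩⟩
  · rw [Preadditive.comp_add, hψ n, hφ n, Preadditive.add_comp]
  · rw [Preadditive.comp_add, (hψe n).1, (hφe n).1, smulMod_add]
  · rw [Preadditive.add_comp, (hψe n).2, (hφe n).2, smulMod_add]

end Groth.Agent.FormalExtH7
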