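import Groth.Agent.Lib.FormalExtH7.Sheaf

/-!
A system mapping onto the completion of a coherent module with uniformly killed kernels is the completion of a
coherent module.
-/

set_option autoImplicit false
set_option linter.style.haveILetI false
set_option backward.isDefEq.respectTransparency false

universe u

open CategoryTheory CategoryTheory.Limits AlgebraicGeometry Opposite

noncomputable section

namespace Groth.Agent.FormalExtH7

open Groth.Agent.FormalH7 Groth.Agent.GExistH7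

variable {A : Type u} [CommRing A] {X : Scheme.{u}} [X.Over (Spec (CommRingCat.of A))] [IsNoetherian X]
  {I : Ideal A} {F : ℕᵒᵖ ⥤ X.Modules}

/-- A map into `E / I^n E` with image that of a submodule `M = ker q` gives a map onto `M / I^n M`. -/
theorem exists_onto (hF : IsSys I F) {E P : X.Modules} (hE : Coh.IsCoh E) (hP : Coh.IsCoh P) (q : E ⟶ P)
    (b : ∀ n, F.obj (op n) ⟶ modI (I ^ (n + 1)) E) (hb : IsFam b) (L : Ideal A)
    (hker : ∀ n, ∀ a ∈ L, ∀ {W : X.Modules} (y : W ⟶ F.obj (op n)), y ≫ b n = 0 →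
      y ≫ Formal.smulMod A (F.obj (op n)) a = 0)
    (him : ∀ n {W : X.Modules} (y : W ⟶ F.obj (op n)), ∃ (W' : X.Modules) (π : W' ⟶ W) (_ : Epi π)
      (z : W' ⟶ kernel q), π ≫ y ≫ b n = z ≫ kernel.ι q ≫ modIπ (I ^ (n + 1)) E)
    (hsurj : ∀ n {W : X.Modules} (z : W ⟶ kernel q), ∃ (W' : X.Modules) (π : W' ⟶ W) (_ : Epi π)
      (y : W' ⟶ F.obj (op n)), π ≫ z ≫ kernel.ι q ≫ modIπ (I ^ (n + 1)) E = y ≫ b n) :
    ∃ γ : ∀ n, F.obj (op n) ⟶ modI (I ^ (n + 1)) (kernel q), IsFam γ ∧ (∀ n, Epi (γ n)) ∧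
      (∀ n, Formal.KilledBy L (kernel (γ n))) ∧
      ∃ d, ∀ n {W : X.Modules} (y : W ⟶ F.obj (op (n + d))) (z : W ⟶ kernel q),
        y ≫ b (n + d) = z ≫ kernel.ι q ≫ modIπ (I ^ (n + d + 1)) E →
          y ≫ gm F (Nat.le_add_right n d) ≫ γ n = z ≫ modIπ (I ^ (n + 1)) (kernel q) := by
  obtain ⟨d, hd⟩ := exists_artinRees I hE hP q
  have hAR : ∀ n {W : X.Modules} (z : W ⟶ kernel q), z ≫ kernel.ι q ≫ modIπ (I ^ (n + d + 1)) E = 0 →
      z ≫ modIπ (I ^ (n + 1)) (kernel q) = 0 := fun n W z hz => by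
    rw [← kernel.lift_ι (kernel.ι q ≫ modIπ (I ^ (n + d + 1)) E) z hz, Category.assoc, hd n, comp_zero]
  have hdef : ∀ n, ∃ γ : F.obj (op n) ⟶ modI (I ^ (n + 1)) (kernel q), ∀ {W : X.Modules}
      (y : W ⟶ F.obj (op (n + d))) (z : W ⟶ kernel q),
      y ≫ b (n + d) = z ≫ kernel.ι q ≫ modIπ (I ^ (n + d + 1)) E →
        y ≫ gm F (Nat.le_add_right n d) ≫ γ = z ≫ modIπ (I ^ (n + 1)) (kernel q) := by
    intro n
    let D : biprod (F.obj (op (n + d))) (kernel q) ⟶ modI (I ^ (n + d + 1)) E :=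
      biprod.desc (b (n + d)) (-(kernel.ι q ≫ modIπ (I ^ (n + d + 1)) E))
    let p₁ : kernel D ⟶ F.obj (op (n + d)) := kernel.ι D ≫ biprod.fst
    let p₂ : kernel D ⟶ kernel q := kernel.ι D ≫ biprod.snd
    have hp : p₁ ≫ b (n + d) = p₂ ≫ kernel.ι q ≫ modIπ (I ^ (n + d + 1)) E := by
      have h := kernel.condition D
      simp only [D, biprod.desc_eq, Preadditive.comp_add, Preadditive.comp_neg] at h
      simpa [p₁, p₂] using add_neg_eq_zero.1 h
    have hlift : ∀ {W : X.Modules} (y : W ⟶ F.obj (op (n + d))) (z : W ⟶ kernel q),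
        y ≫ b (n + d) = z ≫ kernel.ι q ≫ modIπ (I ^ (n + d + 1)) E →
          ∃ t : W ⟶ kernel D, t ≫ p₁ = y ∧ t ≫ p₂ = z := fun y z h =>
      ⟨kernel.lift D (biprod.lift y z) (by simp [D, h]), by simp [p₁], by simp [p₂]⟩
    haveI : Epi p₁ := by
      rw [epi_iff_surjective_up_to_refinements]
      intro W y
      obtain ⟨W', π, hπ, z, hz⟩ := him (n + d) y
      obtain ⟨t, ht, -⟩ := hlift (π ≫ y) z (by rw [Category.assoc, hz])
      exact ⟨W', π, hπ, t, ht.symm⟩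
    obtain ⟨γ₀, hγ₀⟩ := kernel_desc p₁ (p₂ ≫ modIπ (I ^ (n + 1)) (kernel q)) (by
      rw [← Category.assoc]
      exact hAR n _ (by rw [Category.assoc, ← hp, kernel.condition_assoc, zero_comp]))
    obtain ⟨γ, hγ⟩ := (hF.quot_gm (Nat.le_add_right n d)).desc_killed γ₀ (isQuot_modIπ _ _).killed
    refine ⟨γ, fun {W} y z h => ?_⟩
    obtain ⟨t, rfl, rfl⟩ := hlift y z h
    rw [hγ, Category.assoc, hγ₀]
    simp [p₂]
  choose γ hγ using hdef
  refine ⟨γ, fun n => ?_, fun n => ?_, fun n => ?_, d, fun n {W} y z h => hγ n y z h⟩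
  · haveI : Epi (gm F (Nat.le_add_right (n + 1) d)) := (hF.quot_gm _).epi
    rw [← cancel_epi (gm F (Nat.le_add_right (n + 1) d))]
    obtain ⟨W', π, hπ, z, hz⟩ := him (n + 1 + d) (𝟙 _)
    rw [← cancel_epi π]
    rw [Category.id_comp] at hz
    have hle : n + d ≤ n + 1 + d := by omega
    have h2 : (π ≫ gm F hle) ≫ b (n + d) = z ≫ kernel.ι q ≫ modIπ (I ^ (n + d + 1)) E := by
      rw [Category.assoc, fam_trLE hb hle, reassoc_of% hz, π_trLE]
    have e1 := hγ n _ _ h2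
    rw [Category.assoc, gm_comp_assoc] at e1
    rw [gm_comp_assoc, e1, reassoc_of% (hγ (n + 1) π z hz), π_tr]
  · rw [epi_iff_surjective_up_to_refinements]
    intro W m
    haveI := (isQuot_modIπ (I ^ (n + 1)) (kernel q)).epi
    obtain ⟨W₁, π₁, hπ₁, z, hz⟩ := surjective_up_to_refinements_of_epi (modIπ (I ^ (n + 1)) (kernel q)) m
    obtain ⟨W₂, π₂, hπ₂, y, hy⟩ := hsurj (n + d) z
    refine ⟨W₂, π₂ ≫ π₁, epi_comp _ _, y ≫ gm F (Nat.le_add_right n d), ?_⟩
    rw [Category.assoc, Category.assoc, hγ n y (π₂ ≫ z) (by rw [← hy, Category.assoc]), hz, Category.assoc]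
  · intro a ha
    rw [← cancel_mono (kernel.ι (γ n)), smulMod_naturality, zero_comp]
    haveI : Epi (gm F (Nat.le_add_right n d)) := (hF.quot_gm _).epi
    obtain ⟨W₁, π₁, hπ₁, y, hy⟩ :=
      surjective_up_to_refinements_of_epi (gm F (Nat.le_add_right n d)) (kernel.ι (γ n))
    obtain ⟨W₂, π₂, hπ₂, z, hz⟩ := him (n + d) y
    let D : biprod (F.obj (op (n + d))) (kernel q) ⟶ modI (I ^ (n + d + 1)) E :=
      biprod.desc (b (n + d)) (-(kernel.ι q ≫ modIπ (I ^ (n + d + 1)) E))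
    haveI : Epi (kernel.ι D ≫ biprod.snd) := by
      rw [epi_iff_surjective_up_to_refinements]
      intro W w
      obtain ⟨W', π, hπ, y', hy'⟩ := hsurj (n + d) w
      exact ⟨W', π, hπ, kernel.lift D (biprod.lift y' (π ≫ w)) (by simp [D, hy']), by simp⟩
    have hzn : z ≫ modIπ (I ^ (n + 1)) (kernel q) = 0 := by
      rw [← hγ n (π₂ ≫ y) z (by rw [Category.assoc, hz]), Category.assoc, ← reassoc_of% hy, kernel.condition,
        comp_zero, comp_zero]
    obtain ⟨W₃, π₃, hπ₃, t, ht, ht'⟩ := lift_kernel_modI (I ^ (n + 1)) (kernel.ι D ≫ biprod.snd) z hzn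
    have hb' : (t ≫ kernel.ι D ≫ biprod.fst) ≫ b (n + d) = (π₃ ≫ π₂ ≫ y) ≫ b (n + d) := by
      have h := kernel.condition D
      simp only [D, biprod.desc_eq, Preadditive.comp_add, Preadditive.comp_neg] at h
      have h' := congrArg (t ≫ ·) (add_neg_eq_zero.1 h)
      simp only [← Category.assoc] at h' ⊢
      rw [h']
      simp only [Category.assoc]
      rw [hz, ← Category.assoc (kernel.ι D) biprod.snd, ← Category.assoc t, ← ht, Category.assoc]
    obtain ⟨φ', hφ'⟩ := (isQuot_modIπ (I ^ (n + 1)) (kernel D)).desc_killed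
      (kernel.ι D ≫ biprod.fst ≫ gm F (Nat.le_add_right n d)) (hF.killed n)
    have hg : (t ≫ kernel.ι D ≫ biprod.fst) ≫ gm F (Nat.le_add_right n d) = 0 := by
      rw [Category.assoc, Category.assoc, ← hφ', reassoc_of% ht', zero_comp]
    have h0 := hker (n + d) a ha (π₃ ≫ π₂ ≫ y - t ≫ kernel.ι D ≫ biprod.fst) (by
      rw [Preadditive.sub_comp, hb', sub_self])
    rw [← cancel_epi π₁, ← cancel_epi π₂, ← cancel_epi π₃, comp_zero, comp_zero, comp_zero, ← Category.assoc π₁, hy]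
    have h1 := congrArg (· ≫ gm F (Nat.le_add_right n d)) h0
    simp only [Category.assoc, smulMod_naturality, zero_comp] at h1
    rw [← Category.assoc, Preadditive.sub_comp, hg, sub_zero] at h1
    simpa only [Category.assoc] using h1

/-- A system mapping onto the completion of a coherent module with kernels killed by a fixed power is the completion
of the fibre product of one of its terms with the module. -/
theorem exists_glue (hF : IsSys I F) {M : X.Modules} (hM : Coh.IsCoh M)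
    (γ : ∀ n, F.obj (op n) ⟶ modI (I ^ (n + 1)) M) (hγ : IsFam γ) (hepi : ∀ n, Epi (γ n))
    (c : ℕ) (hk : ∀ n, Formal.KilledBy (I ^ c) (kernel (γ n))) :
    ∃ (F' : X.Modules) (a : F' ⟶ M) (χ : ∀ n, F' ⟶ F.obj (op n)), Coh.IsCoh F' ∧ Epi a ∧
      (∀ n, IsQuot (I ^ (n + 1)) (χ n)) ∧ (∀ n, χ (n + 1) ≫ gm F (Nat.le_succ n) = χ n) ∧
      (∀ n, χ n ≫ γ n = a ≫ modIπ (I ^ (n + 1)) M) ∧
      ∃ N, (∀ {W : X.Modules} (x : W ⟶ F.obj (op N)) (m : W ⟶ M), x ≫ γ N = m ≫ modIπ (I ^ (N + 1)) M →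
          ∃ t : W ⟶ F', t ≫ χ N = x ∧ t ≫ a = m) ∧
        (∀ {W : X.Modules} (t t' : W ⟶ F'), t ≫ χ N = t' ≫ χ N → t ≫ a = t' ≫ a → t = t') ∧
        (∀ n (h : N ≤ n) {W : X.Modules} (y y' : W ⟶ F.obj (op n)), y ≫ gm F h = y' ≫ gm F h →
          y ≫ γ n = y' ≫ γ n → y = y') := by
  obtain ⟨N, hN⟩ := exists_stableKernel I hF hM γ hγ hepi c hk
  have hzero : ∀ n (h : N ≤ n) {W : X.Modules} (y : W ⟶ F.obj (op n)), y ≫ gm F h = 0 → y ≫ γ n = 0 → y = 0 := by
    intro n h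
    induction n, h using Nat.le_induction with
    | base => intro W y hy _; rwa [gm_refl, Category.comp_id] at hy
    | succ n h ih =>
      intro W y hy hy'
      refine hN n h y (ih (y ≫ gm F (Nat.le_succ n)) ?_ ?_) hy'
      · rw [Category.assoc, gm_comp, hy]
      · rw [Category.assoc, hγ n, reassoc_of% hy', zero_comp]
  have hext : ∀ n (h : N ≤ n) {W : X.Modules} (y y' : W ⟶ F.obj (op n)), y ≫ gm F h = y' ≫ gm F h →
      y ≫ γ n = y' ≫ γ n → y = y' := fun n h W y y' h1 h2 => sub_eq_zero.1 (hzero n h _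
    (by rw [Preadditive.sub_comp, h1, sub_self]) (by rw [Preadditive.sub_comp, h2, sub_self]))
  let D : biprod (F.obj (op N)) M ⟶ modI (I ^ (N + 1)) M := biprod.desc (γ N) (-(modIπ (I ^ (N + 1)) M))
  let p₁ : kernel D ⟶ F.obj (op N) := kernel.ι D ≫ biprod.fst
  let p₂ : kernel D ⟶ M := kernel.ι D ≫ biprod.snd
  have hp : p₁ ≫ γ N = p₂ ≫ modIπ (I ^ (N + 1)) M := by
    have h := kernel.condition D
    simp only [D, biprod.desc_eq, Preadditive.comp_add, Preadditive.comp_neg] at h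
    simpa [p₁, p₂] using add_neg_eq_zero.1 h
  have hlift : ∀ {W : X.Modules} (x : W ⟶ F.obj (op N)) (m : W ⟶ M), x ≫ γ N = m ≫ modIπ (I ^ (N + 1)) M →
      ∃ t : W ⟶ kernel D, t ≫ p₁ = x ∧ t ≫ p₂ = m := fun x m h =>
    ⟨kernel.lift D (biprod.lift x m) (by simp [D, h]), by simp [p₁], by simp [p₂]⟩
  have hcoh : Coh.IsCoh (kernel D) :=
    M1.isCoh_kernel (M1.isCoh_biprod (hF.coh N) hM) (isQCoh_modI' hM.1) D
  haveI hp₂ : Epi p₂ := by
    rw [epi_iff_surjective_up_to_refinements]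
    intro W m
    haveI := hepi N
    obtain ⟨W', π, hπ, x, hx⟩ := surjective_up_to_refinements_of_epi (γ N) (m ≫ modIπ (I ^ (N + 1)) M)
    obtain ⟨t, -, ht⟩ := hlift x (π ≫ m) (by rw [← hx, Category.assoc])
    exact ⟨W', π, hπ, t, ht.symm⟩
  have hχ₀ : ∀ n (h : N ≤ n), ∃ χ : kernel D ⟶ F.obj (op n),
      χ ≫ gm F h = p₁ ∧ χ ≫ γ n = p₂ ≫ modIπ (I ^ (n + 1)) M := by
    intro n h
    let Ψ : F.obj (op n) ⟶ biprod (F.obj (op N)) (modI (I ^ (n + 1)) M) := biprod.lift (gm F h) (γ n)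
    haveI : Mono Ψ := Preadditive.mono_of_cancel_zero _ fun y hy => hzero n h y
      (by simpa [Ψ] using congrArg (· ≫ biprod.fst) hy) (by simpa [Ψ] using congrArg (· ≫ biprod.snd) hy)
    let θ : kernel D ⟶ biprod (F.obj (op N)) (modI (I ^ (n + 1)) M) :=
      biprod.lift p₁ (p₂ ≫ modIπ (I ^ (n + 1)) M)
    have hθ : θ ≫ cokernel.π Ψ = 0 := by
      haveI := (hF.quot_gm h).epi
      obtain ⟨W₁, π₁, hπ₁, x', hx'⟩ := surjective_up_to_refinements_of_epi (gm F h) p₁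
      let δ := π₁ ≫ p₂ ≫ modIπ (I ^ (n + 1)) M - x' ≫ γ n
      have hδ : δ ≫ trLE I M h = 0 := by
        simp only [δ, Preadditive.sub_comp, Category.assoc, π_trLE]
        rw [← fam_trLE hγ h, ← reassoc_of% hx', hp, sub_self]
      obtain ⟨e, he⟩ := (isQuot_modIπ (I ^ (N + 1)) (modI (I ^ (n + 1)) M)).exists_iso (isQuot_trLE I M h)
      have hδ' : δ ≫ modIπ (I ^ (N + 1)) (modI (I ^ (n + 1)) M) = 0 := by
        rw [← cancel_mono e.hom, Category.assoc, he, hδ, zero_comp]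
      haveI := hepi n
      obtain ⟨W₂, π₂, hπ₂, g, hg, hg'⟩ := lift_kernel_modI (I ^ (N + 1)) (γ n) δ hδ'
      obtain ⟨φ', hφ'⟩ := (isQuot_modIπ (I ^ (N + 1)) (F.obj (op n))).desc_killed (gm F h) (hF.killed N)
      have hgm : g ≫ gm F h = 0 := by rw [← hφ', reassoc_of% hg', zero_comp]
      have hy : (π₂ ≫ π₁) ≫ θ = (π₂ ≫ x' + g) ≫ Ψ := by
        apply biprod.hom_ext
        · simp only [θ, Ψ, Category.assoc, biprod.lift_fst, Preadditive.add_comp, hgm, add_zero, hx']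
        · simp only [θ, Ψ, Category.assoc, biprod.lift_snd, Preadditive.add_comp, ← hg, δ, Preadditive.comp_sub,
            add_sub_cancel]
      rw [← cancel_epi (π₂ ≫ π₁), ← Category.assoc, hy, Category.assoc, cokernel.condition, comp_zero, comp_zero]
    refine ⟨Abelian.monoLift Ψ θ hθ, ?_, ?_⟩
    · rw [← biprod.lift_fst (gm F h) (γ n), ← Category.assoc, Abelian.monoLift_comp, biprod.lift_fst]
    · rw [← biprod.lift_snd (gm F h) (γ n), ← Category.assoc, Abelian.monoLift_comp, biprod.lift_snd]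
  choose χ₀ hχ₁ hχ₂ using hχ₀
  have hcomp : ∀ n m (h : N ≤ n) (h' : n ≤ m), χ₀ m (h.trans h') ≫ gm F h' = χ₀ n h := fun n m h h' =>
    hext n h _ _ (by rw [Category.assoc, gm_comp, hχ₁, hχ₁])
      (by rw [Category.assoc, fam_trLE hγ h', reassoc_of% (hχ₂ m _), π_trLE, hχ₂])
  have hquot : ∀ n (h : N ≤ n), IsQuot (I ^ (n + 1)) (χ₀ n h) := by
    intro n h
    haveI : Epi (χ₀ n h) := by
      rw [epi_iff_surjective_up_to_refinements]
      intro W x
      haveI := (isQuot_modIπ (I ^ (n + 1)) M).epi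
      obtain ⟨W', π, hπ, m, hm⟩ := surjective_up_to_refinements_of_epi (modIπ (I ^ (n + 1)) M) (x ≫ γ n)
      obtain ⟨t, ht₁, ht₂⟩ := hlift (π ≫ x ≫ gm F h) m (by
        simp only [Category.assoc]
        rw [fam_trLE hγ h, reassoc_of% hm, π_trLE])
      exact ⟨W', π, hπ, t, hext n h _ _ (by simp only [Category.assoc, hχ₁, ht₁])
        (by simp only [Category.assoc, hχ₂, reassoc_of% ht₂, hm])⟩
    refine ⟨inferInstance, fun a ha => by rw [smulMod_naturality, hF.killed n a ha, comp_zero],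
      fun {T} φ hφ => kernel_desc (χ₀ n h) φ ?_⟩
    have h1 : kernel.ι (χ₀ n h) ≫ p₁ = 0 := by rw [← hχ₁ n h, kernel.condition_assoc, zero_comp]
    have h2 : (kernel.ι (χ₀ n h) ≫ p₂) ≫ modIπ (I ^ (n + 1)) M = 0 := by
      rw [Category.assoc, ← hχ₂ n h, kernel.condition_assoc, zero_comp]
    obtain ⟨W', π, hπ, g, hg, hg'⟩ := lift_kernel_modI (I ^ (n + 1)) p₂ _ h2
    obtain ⟨φ₁, hφ₁⟩ := (isQuot_modIπ (I ^ (n + 1)) (kernel D)).desc_killed p₁
      (killedBy_mono (Ideal.pow_le_pow_right (by omega)) (hF.killed N))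
    have hg1 : g ≫ p₁ = 0 := by rw [← hφ₁, reassoc_of% hg', zero_comp]
    have hgeq : π ≫ kernel.ι (χ₀ n h) = g := by
      rw [← cancel_mono (kernel.ι D)]
      apply biprod.hom_ext
      · simp only [Category.assoc]
        rw [show kernel.ι D ≫ biprod.fst = p₁ from rfl, h1, hg1, comp_zero]
      · simp only [Category.assoc]
        rw [show kernel.ι D ≫ biprod.snd = p₂ from rfl, hg]
    obtain ⟨φ₂, hφ₂⟩ := (isQuot_modIπ (I ^ (n + 1)) (kernel D)).desc φ hφ
    rw [← cancel_epi π, reassoc_of% hgeq, ← hφ₂, reassoc_of% hg', zero_comp, comp_zero]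
  refine ⟨kernel D, p₂, fun n => χ₀ (n + N) (Nat.le_add_left N n) ≫ gm F (Nat.le_add_right n N), hcoh, hp₂,
    fun n => (hquot _ _).trans (hF.quot_gm _) (Ideal.pow_le_pow_right (by omega)), fun n => ?_, fun n => ?_, N,
    fun x m h => ?_, fun t t' h h' => ?_, hext⟩
  · show (_ ≫ _) ≫ _ = χ₀ (n + N) _ ≫ gm F _
    rw [Category.assoc, gm_comp, ← hcomp (n + N) (n + 1 + N) (Nat.le_add_left N n) (by omega), Category.assoc,
      gm_comp]
  · rw [Category.assoc, fam_trLE hγ, reassoc_of% (hχ₂ (n + N) _), π_trLE]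
  · obtain ⟨t, ht₁, ht₂⟩ := hlift x m h
    exact ⟨t, by beta_reduce; rw [hχ₁, ht₁], ht₂⟩
  · rw [← cancel_mono (kernel.ι D)]
    beta_reduce at h
    rw [hχ₁] at h
    apply biprod.hom_ext
    · simpa [p₁] using h
    · simpa [p₂] using h'

end Groth.Agent.FormalExtH7
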