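import Groth.Agent.Lib.FormalExtH7.IdealMap
import Groth.Agent.Lib.TowerVanH7.Basic

/-!
The topology on the cohomology of the limit of a coherent formal module is adic.
-/

set_option autoImplicit false
set_option linter.style.haveILetI false
set_option backward.isDefEq.respectTransparency false

universe u

open CategoryTheory CategoryTheory.Limits CategoryTheory.Abelian AlgebraicGeometry Opposite TopologicalSpace

noncomputable section

attribute [local instance] CategoryTheory.Abelian.hasFiniteBiproducts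

namespace Groth.Agent.FormalExtH7

open Groth.Agent.FormalH7 Groth.Agent.GExistH7

variable {A : Type u} [CommRing A] {X : Scheme.{u}} [X.Over (Spec (CommRingCat.of A))]

/-- The map induced on cohomology. -/
abbrev hmap {M N : X.Modules} (φ : M ⟶ N) (p : ℕ) : Coh.HH X M p →+ Coh.HH X N p :=
  Sheaf.H.map ((SheafOfModules.toSheaf _).map φ) p

theorem hmap_add {M N : X.Modules} (φ ψ : M ⟶ N) (p : ℕ) (x : Coh.HH X M p) :
    hmap (φ + ψ) p x = hmap φ p x + hmap ψ p x := by
  change x.comp (Ext.mk₀ (((SheafOfModules.toSheaf X.ringCatSheaf).map (φ + ψ)))) (add_zero p) = _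
  rw [Functor.map_add, Ext.mk₀_add, Ext.comp_add]
  rfl

theorem hmap_sum {M N : X.Modules} {ι : Type*} [Fintype ι] (φ : ι → (M ⟶ N)) (p : ℕ) (x : Coh.HH X M p) :
    hmap (∑ i, φ i) p x = ∑ i, hmap (φ i) p x :=
  map_sum (AddMonoidHom.mk' (fun φ : M ⟶ N => hmap φ p x) fun a b => hmap_add a b p x) φ Finset.univ

theorem hmap_smul {M N : X.Modules} (φ : M ⟶ N) (p : ℕ) (a : A) (x : Coh.HH X M p) :
    hmap φ p (a • x) = a • hmap φ p x := by
  change hmap φ p (hmap (Formal.smulMod A M a) p x) = hmap (Formal.smulMod A N a) p (hmap φ p x)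
  rw [hmap, hmap, hmap, Formal.HHmap_comp, Formal.HHmap_comp, smulMod_naturality]

/-- Compatible classes come from the limit. -/
theorem exists_hmap_limit {G : ℕᵒᵖ ⥤ X.Modules} (hq : ∀ n, Coh.IsQCoh (G.obj (op n)))
    (he : ∀ n : ℕ, Epi (G.map (homOfLE (Nat.le_succ n)).op)) :
    ∀ (p : ℕ) (x : ∀ n, Coh.HH X (G.obj (op n)) p), (∀ n, Formal2.HHsysMap G p n (x (n + 1)) = x n) →
      ∃ ξ : Coh.HH X (limit G) p, ∀ n, hmap (limit.π G (op n)) p ξ = x n
  | 0, x, hx => by
    let T := (constantSheaf (Opens.grothendieckTopology X) AddCommGrpCat.{u}).obj (AddCommGrpCat.of (ULift ℤ))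
    choose ψ hψ using fun n => (Ext.mk₀_bijective T ((CohFound.abF X).obj (G.obj (op n)))).2 (x n)
    have hc : ∀ n, ψ (n + 1) ≫ (CohFound.abF X).map (G.map (homOfLE (Nat.le_succ n)).op) = ψ n := fun n => by
      refine (Ext.mk₀_bijective T _).1 ?_
      rw [← Ext.mk₀_comp_mk₀, hψ, hψ]
      exact hx n
    let cone : Cone (G ⋙ CohFound.abF X) :=
      { pt := T
        π := NatTrans.ofOpSequence (fun n => ψ n) fun n => by
          change 𝟙 T ≫ ψ n = ψ (n + 1) ≫ (CohFound.abF X).map (G.map (homOfLE (Nat.le_succ n)).op)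
          rw [Category.id_comp, hc] }
    refine ⟨Ext.mk₀ ((TowerVanH7.isLimitCn G).lift cone), fun n => ?_⟩
    change (Ext.mk₀ ((TowerVanH7.isLimitCn G).lift cone)).comp
      (Ext.mk₀ ((CohFound.abF X).map (limit.π G (op n)))) (add_zero 0) = x n
    rw [Ext.mk₀_comp_mk₀, show (TowerVanH7.isLimitCn G).lift cone ≫ (CohFound.abF X).map (limit.π G (op n)) = ψ n
      from (TowerVanH7.isLimitCn G).fac cone (op n), hψ]
  | q + 1, x, hx => (TowerVanH7.milnor G hq he
      ((constantSheaf _ AddCommGrpCat.{u}).obj (AddCommGrpCat.of (ULift ℤ))) (q + 1) q rfl).1 x hx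

/-- Classes dying in a quotient come from the kernel. -/
theorem exists_hmap_kernel {M N : X.Modules} (π : M ⟶ N) [Epi π] (p : ℕ) (ξ : Coh.HH X M p) (h : hmap π p ξ = 0) :
    ∃ ζ : Coh.HH X (kernel π) p, hmap (kernel.ι π) p ζ = ξ := by
  have hS : (ShortComplex.mk (kernel.ι π) π (kernel.condition π)).ShortExact :=
    { exact := ShortComplex.exact_kernel π }
  exact Ext.covariant_sequence_exact₂ _ (CohFound.shortExact_abF hS) ξ h

/-- Compatible families vanishing at a large stage are sums of multiples by a power of the ideal. -/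
theorem topology_adic [IsNoetherian X] {r : ℕ} (f : Fin r → A) (I : Ideal A) (hI : I = Ideal.span (Set.range f))
    (c : ℕ) (φ : Fin r → (↥(I ^ c) →ₗ[A] A)) (hφ : ∀ x : ↥(I ^ c), (x : A) = ∑ j, f j * φ j x)
    (G : ℕᵒᵖ ⥤ X.Modules) (hG : Formal.IsCohFormal I G) (p m : ℕ) :
    ∃ C : ℕ, ∀ x : ∀ n, Coh.HH X (G.obj (op n)) p,
      (∀ n, Formal2.HHsysMap G p n (x (n + 1)) = x n) → x C = 0 →
        ∃ (k : ℕ) (a : Fin k → A) (y : Fin k → ∀ n, Coh.HH X (G.obj (op n)) p),
          (∀ i, a i ∈ I ^ m ∧ ∀ n, Formal2.HHsysMap G p n (y i (n + 1)) = y i n) ∧ x = ∑ i, a i • y i := by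
  classical
  obtain ⟨c', hcc', hmain⟩ := exists_graded_map f I c φ hφ G hG
  let φ' : Fin r → (↥(I ^ c') →ₗ[A] A) := fun j => (φ j).comp (Submodule.inclusion (Ideal.pow_le_pow_right hcc'))
  obtain ⟨ΦF, -, hΦF, -⟩ := hmain (LocCohLib.Φ φ') ⟨LocCohLib.Φ_add φ', LocCohLib.Φ_smul φ',
    LocCohLib.Φ_homogeneous φ', LocCohLib.Φ_mul φ', fun a => rfl, LocCohLib.Φ_one φ'⟩ m
  refine ⟨m * c', fun x hx hx0 => ?_⟩
  have hs := isSys_of_isCohFormal hG
  obtain ⟨ξ, hξ⟩ := exists_hmap_limit (fun n => (hG.1 n).1) (fun n => (hs.quot n).epi) p x hx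
  have hIfg : I.FG := hI ▸ ⟨(Set.finite_range f).toFinset, by rw [Set.Finite.coe_toFinset]⟩
  obtain ⟨w, hw⟩ := limit_truncation hIfg (fun n => (hG.1 n).1) hG.2.1 hG.2.2 (m * c')
  haveI := hw
  have h0 : hmap (Formal.modPowπ I (m * c' + 1) (limit G)) p ξ = 0 := by
    have e : limit.π G (op (m * c')) ≫ inv (cokernel.desc _ _ w) = Formal.modPowπ I (m * c' + 1) (limit G) := by
      rw [IsIso.comp_inv_eq]
      exact (cokernel.π_desc _ _ w).symm
    rw [← e, hmap, ← Formal.HHmap_comp]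
    exact (congrArg _ ((hξ _).trans hx0)).trans (map_zero _)
  haveI : Epi (Formal.modPowπ I (m * c' + 1) (limit G)) := inferInstanceAs (Epi (cokernel.π _))
  obtain ⟨ζ, hζ⟩ := exists_hmap_kernel _ p ξ h0
  let η := hmap (Formal2.idealPowIncl I (Nat.le_succ (m * c')) (limit G) ≫ ΦF) p ζ
  let E := ↥(Finset.Nat.antidiagonalTuple r m)
  let w' : E → Coh.HH X (limit G) p := fun e => hmap (biproduct.π _ e) p η
  have hsum : ξ = ∑ e : E, (∏ j, f j ^ (e.1 j)) • w' e := by
    have h1 : ξ = hmap (biproduct.desc (fun e : E => Formal.smulMod A (limit G) (∏ j, f j ^ (e.1 j)))) p η := by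
      simp only [η, hmap]
      rw [Formal.HHmap_comp, Category.assoc, hΦF]
      refine hζ.symm.trans ?_
      congr 2
      exact (kernel.lift_ι _ _ _).symm
    rw [h1, biproduct.desc_eq, hmap_sum]
    refine Finset.sum_congr rfl fun e _ => ?_
    exact (Formal.HHmap_comp _ _ p η).symm
  let σ := (Fintype.equivFin E).symm
  refine ⟨Fintype.card E, fun i => ∏ j, f j ^ ((σ i).1 j), fun i n => hmap (limit.π G (op n)) p (w' (σ i)),
    fun i => ⟨?_, fun n => ?_⟩, ?_⟩
  · have h := Ideal.prod_mem_prod (s := Finset.univ) (I := fun j => I ^ ((σ i).1 j)) (x := fun j => f j ^ ((σ i).1 j))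
      fun j _ => Ideal.pow_mem_pow (hI ▸ Ideal.subset_span (Set.mem_range_self j)) _
    rwa [Finset.prod_pow_eq_pow_sum, Finset.Nat.mem_antidiagonalTuple.1 (σ i).2] at h
  · exact (Formal.HHmap_comp _ _ p _).trans (congrArg (fun φ => hmap φ p (w' (σ i))) (limit.w G _))
  · funext n
    rw [← hξ n, hsum, map_sum, Finset.sum_apply]
    simp only [hmap_smul, Pi.smul_apply]
    exact (σ.sum_comp fun e : E => (∏ j, f j ^ (e.1 j)) • hmap (limit.π G (op n)) p (w' e)).symm

end Groth.Agent.FormalExtH7
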