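import Groth.Agent.Lib.FormalExtH7.Alg

/-!
Torsion in a system of quotients of a finite module is detected at a bounded stage.
-/

set_option autoImplicit false

universe u v

namespace Groth.Agent.FormalExtH7

variable {B : Type u} [CommRing B] (K : Ideal B) {F : ℕ → Type v} [∀ n, AddCommGroup (F n)] [∀ n, Module B (F n)]
  (t : ∀ n, F (n + 1) →ₗ[B] F n)

/-- Products of powers kill the right terms. -/
theorem smul_eq_zero_of_pow (hk : ∀ n, ∀ a ∈ K ^ (n + 1), ∀ x : F n, a • x = 0) {n p q : ℕ}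
    (h : n + 1 ≤ p + q) {a : B} (ha : a ∈ K ^ p) {z : F n} (hz : z ∈ (K ^ q • ⊤ : Submodule B (F n))) :
    a • z = 0 := by
  refine Submodule.smul_induction_on hz (fun b hb w _ => ?_) fun x y hx hy => by rw [smul_add, hx, hy, add_zero]
  rw [← mul_smul]
  exact hk n _ (Ideal.pow_le_pow_right h (pow_add K p q ▸ Ideal.mul_mem_mul ha hb)) w

/-- A family vanishing at stage `n` lies in `K^(n+1)` above. -/
theorem mem_pow_smul_of_eq_zero (ht : ∀ n, Function.Surjective (t n))
    (hker : ∀ n (x : F (n + 1)), t n x = 0 → x ∈ (K ^ (n + 1) • ⊤ : Submodule B (F (n + 1))))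
    (y : ∀ n, F n) {n : ℕ} (h0 : y n = 0) :
    ∀ {j : ℕ}, (∀ p, n ≤ p → p < n + j → t p (y (p + 1)) = y p) →
      y (n + j) ∈ (K ^ (n + 1) • ⊤ : Submodule B (F (n + j))) := by
  intro j hy
  induction j with
  | zero =>
    show y n ∈ _
    rw [h0]
    exact zero_mem _
  | succ j ih =>
    have h1 : y (n + j) ∈ Submodule.map (t (n + j)) (K ^ (n + 1) • ⊤ : Submodule B (F (n + j + 1))) := by
      rw [Submodule.map_smul'', Submodule.map_top, LinearMap.range_eq_top.2 (ht _)]
      exact ih fun p hp hp' => hy p hp (by omega)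
    obtain ⟨w, hw, hwe⟩ := h1
    have h2 := hker (n + j) (y (n + j + 1) - w) (by rw [map_sub, hy (n + j) (by omega) (by omega), hwe, sub_self])
    have h3 := Submodule.smul_mono_left (N := (⊤ : Submodule B (F (n + j + 1))))
      (Ideal.pow_le_pow_right (I := K) (show n + 1 ≤ n + j + 1 by omega)) h2
    have h4 := add_mem h3 hw
    rwa [sub_add_cancel] at h4

/-- The torsion bound. -/
theorem exists_torsion_stage [IsNoetherianRing B] [Module.Finite B (F 0)] (ht : ∀ n, Function.Surjective (t n))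
    (hker : ∀ n (x : F (n + 1)), t n x = 0 → x ∈ (K ^ (n + 1) • ⊤ : Submodule B (F (n + 1))))
    (hk : ∀ n, ∀ a ∈ K ^ (n + 1), ∀ x : F n, a • x = 0) :
    ∃ N, ∀ (m n : ℕ) (y : ∀ p, F p), N ≤ n → (∀ p, p < n + m → t p (y (p + 1)) = y p) →
      (∀ a ∈ K ^ m, a • y (n + m) = 0) → y N = 0 → y n = 0 := by
  obtain ⟨r, φ, hφ, hφc⟩ := exists_presentation K t ht hker hk
  let T : ℕ → ℕ → Submodule B (Fin r → B) := fun n m =>
    { carrier := {v | ∀ a ∈ K ^ m, a • φ (n + m) v = 0}
      add_mem' := fun {v w} hv hw a ha => by rw [map_add, smul_add, hv a ha, hw a ha, add_zero]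
      zero_mem' := fun a _ => by rw [map_zero, smul_zero]
      smul_mem' := fun b v hv a ha => by rw [map_smul, smul_comm, hv a ha, smul_zero] }
  have hstep : ∀ n m, T n m ≤ T n (m + 1) := by
    intro n m v hv a ha
    rw [pow_succ'] at ha
    refine Submodule.mul_induction_on ha (fun b hb c hc => ?_) fun p q hp hq => by rw [add_smul, hp, hq, add_zero]
    have h := hker (n + m) (c • φ (n + m + 1) v) (by rw [map_smul, hφc]; exact hv c hc)
    rw [mul_smul]
    exact smul_eq_zero_of_pow K hk (p := 1) (by omega : n + m + 1 + 1 ≤ 1 + (n + m + 1)) (by rwa [pow_one]) h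
  have hmono : ∀ n, Monotone (T n) := fun n => monotone_nat_of_le_succ (hstep n)
  have hdec : ∀ n m, T (n + 1) m ≤ T n m := by
    intro n m v hv a ha
    show a • φ (n + m) v = 0
    have h : a • φ (n + 1 + m) v = 0 := hv a ha
    have e : n + 1 + m = n + m + 1 := by omega
    rw [e] at h
    rw [← hφc (n + m) v, ← map_smul, h, map_zero]
  let D : K.Filtration (Fin r → B) :=
    { N := fun n => (K ^ n • ⊤ : Submodule B (Fin r → B)) ⊓ ⨆ m, T n m
      mono := fun n => inf_le_inf (Submodule.smul_mono_left (Ideal.pow_le_pow_right (Nat.le_succ n)))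
        (iSup_mono (hdec n))
      smul_le := fun n => Submodule.smul_le.2 fun b hb v hv => by
        obtain ⟨h1, h2⟩ := hv
        refine ⟨?_, ?_⟩
        · rw [pow_succ', ← smul_eq_mul, Submodule.smul_assoc]
          exact Submodule.smul_mem_smul hb h1
        · obtain ⟨m, hm⟩ := (Submodule.mem_iSup_of_directed _ (hmono n).directed_le).1 h2
          refine (Submodule.mem_iSup_of_directed _ (hmono (n + 1)).directed_le).2 ⟨m, fun a ha => ?_⟩
          rw [show n + 1 + m = n + m + 1 by omega]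
          have h := hker (n + m) (a • φ (n + m + 1) v) (by rw [map_smul, hφc]; exact hm a ha)
          rw [map_smul, smul_comm]
          exact smul_eq_zero_of_pow K hk (p := 1) (by omega : n + m + 1 + 1 ≤ 1 + (n + m + 1)) (by rwa [pow_one]) h }
  obtain ⟨d, hd⟩ := (Ideal.Filtration.Stable.of_le (Ideal.stableFiltration_stable K ⊤)
    (F' := D) (fun n => inf_le_left)).exists_pow_smul_eq
  obtain ⟨m₀, hm₀⟩ : ∃ m₀, D.N d ≤ T d m₀ := by
    obtain ⟨s, hs⟩ := IsNoetherian.noetherian (D.N d)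
    have h : ∀ v : (s : Set (Fin r → B)), ∃ m, (v : Fin r → B) ∈ T d m := fun v =>
      (Submodule.mem_iSup_of_directed _ (hmono d).directed_le).1
        ((hs ▸ Submodule.subset_span v.2 : (v : Fin r → B) ∈ D.N d).2)
    choose g hg using h
    refine ⟨Finset.univ.sup g, hs ▸ Submodule.span_le.2 fun v hv => ?_⟩
    exact hmono d (Finset.le_sup (Finset.mem_univ ⟨v, hv⟩)) (hg ⟨v, hv⟩)
  refine ⟨d + m₀, fun m n y hn hy htor hy0 => ?_⟩
  suffices h : ∀ p, d + m₀ ≤ p → p ≤ n → y p = 0 from h n hn le_rfl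
  intro p hp
  induction p, hp using Nat.le_induction with
  | base => exact fun _ => hy0
  | succ p hp ih =>
    intro hpn
    have hp0 : y p = 0 := ih (by omega)
    have hmem : y (p + 1) ∈ Submodule.map (φ (p + 1)) (K ^ (p + 1) • ⊤ : Submodule B (Fin r → B)) := by
      rw [Submodule.map_smul'', Submodule.map_top, LinearMap.range_eq_top.2 (hφ (p + 1))]
      exact hker p _ (by rw [hy p (by omega), hp0])
    obtain ⟨v, hv, hve⟩ := hmem
    have hvT : v ∈ T (p + 1) (n + m - (p + 1)) := by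
      intro a ha
      obtain ⟨j, hj⟩ : ∃ j, n + m = p + 1 + j := ⟨n + m - (p + 1), by omega⟩
      show a • φ (p + 1 + (n + m - (p + 1))) v = 0
      rw [hj] at htor ha ⊢
      rw [show p + 1 + j - (p + 1) = j by omega] at ha ⊢
      have h1 : φ (p + 1 + j) v - y (p + 1 + j) ∈ (K ^ (p + 1 + 1) • ⊤ : Submodule B (F (p + 1 + j))) :=
        mem_pow_smul_of_eq_zero K t ht hker (fun q => φ q v - y q) (by rw [hve, sub_self])
          fun q _ hq' => by rw [map_sub, hφc, hy q (by omega)]
      have h2 := smul_eq_zero_of_pow K hk (p := j) (by omega : p + 1 + j + 1 ≤ j + (p + 1 + 1)) ha h1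
      rw [smul_sub, htor a (Ideal.pow_le_pow_right (by omega) ha), sub_zero] at h2
      exact h2
    have hvD : v ∈ D.N (p + 1) := ⟨hv, Submodule.mem_iSup_of_mem _ hvT⟩
    obtain ⟨i, hi, hi'⟩ : ∃ i, p + 1 = d + i ∧ m₀ ≤ i := ⟨p + 1 - d, by omega, by omega⟩
    rw [← hve]
    rw [hi] at hvD ⊢
    rw [hd i] at hvD
    refine Submodule.smul_induction_on hvD (fun b hb w hw => ?_) fun x z hx hz => by rw [map_add, hx, hz, add_zero]
    rw [map_smul]
    obtain ⟨l, rfl⟩ : ∃ l, i = l + m₀ := ⟨i - m₀, by omega⟩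
    rw [pow_add] at hb
    refine Submodule.mul_induction_on hb (fun c hc a ha => ?_) fun x z hx hz => by rw [add_smul, hx, hz, add_zero]
    rw [mul_smul]
    obtain ⟨e, he⟩ : ∃ e, e = d + (l + m₀) := ⟨_, rfl⟩
    rw [← he]
    obtain rfl : e = d + m₀ + l := by omega
    refine smul_eq_zero_of_pow K hk (q := d + m₀ + 1) (by omega : d + m₀ + l + 1 ≤ l + (d + m₀ + 1)) hc ?_
    exact mem_pow_smul_of_eq_zero K t ht hker (fun q => a • φ q w) (hm₀ hw a ha)
      fun q _ _ => by rw [map_smul, hφc]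

end Groth.Agent.FormalExtH7
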