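import Groth.Agent.Lib.FormalExtH7.Sheaf
import Groth.Agent.Lib.FormalExtH7.TorsionAlg

/-!
Torsion in the limit of a coherent formal module is detected at a bounded stage.
-/

set_option autoImplicit false
set_option linter.style.haveILetI false
set_option backward.isDefEq.respectTransparency false

universe u

open CategoryTheory CategoryTheory.Limits AlgebraicGeometry Opposite

noncomputable section

namespace Groth.Agent.FormalExtH7

open Groth.Agent.FormalH7 Groth.Agent.GExistH7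

variable {A : Type u} [CommRing A] {X : Scheme.{u}} [X.Over (Spec (CommRingCat.of A))]

/-- The common kernel of finitely many maps of quasi-coherent modules. -/
theorem exists_common_kernel {M N : X.Modules} (hM : Coh.IsQCoh M) (hN : Coh.IsQCoh N) :
    ∀ (r : ℕ) (φ : Fin r → (M ⟶ N)), ∃ (K : X.Modules) (ι : K ⟶ M), Coh.IsQCoh K ∧ (∀ i, ι ≫ φ i = 0) ∧
      ∀ {W : X.Modules} (y : W ⟶ M), (∀ i, y ≫ φ i = 0) → ∃ z : W ⟶ K, z ≫ ι = y
  | 0, φ => ⟨M, 𝟙 M, hM, fun i => i.elim0, fun y _ => ⟨y, Category.comp_id y⟩⟩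
  | r + 1, φ => by
    obtain ⟨K, ι, hK, h0, hfac⟩ := exists_common_kernel hM hN r fun i => φ i.castSucc
    refine ⟨kernel (ι ≫ φ (Fin.last r)), kernel.ι (ι ≫ φ (Fin.last r)) ≫ ι, M1.isQCoh_kernel hK hN _,
      fun i => ?_, fun y hy => ?_⟩
    · refine Fin.lastCases ?_ (fun j => ?_) i
      · rw [Category.assoc, kernel.condition]
      · rw [Category.assoc, h0, comp_zero]
    · obtain ⟨z, rfl⟩ := hfac y fun i => hy i.castSucc
      exact ⟨kernel.lift _ z (by rw [← Category.assoc]; exact hy (Fin.last r)), kernel.lift_ι_assoc _ _ _ _⟩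

/-- The torsion bound for a system of coherent modules. -/
theorem exists_torsion_stage_sheaf [IsNoetherian X] (I : Ideal A) {G : ℕᵒᵖ ⥤ X.Modules} (hG : IsSys I G) :
    ∃ N, ∀ (m n : ℕ) (_ : N ≤ n) {W : X.Modules} (y : W ⟶ G.obj (op (n + m))),
      (∀ a ∈ I ^ m, y ≫ Formal.smulMod A (G.obj (op (n + m))) a = 0) →
        ∀ hN : N ≤ n + m, y ≫ gm G hN = 0 → y ≫ gm G (Nat.le_add_right n m) = 0 := by
  classical
  obtain ⟨S, hS, hcov⟩ := M1.exists_finite_affine_iSup (X := X) (U := ⊤) (by simpa using isCompact_univ)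
  have hloc : ∀ U : S, ∃ N, ∀ (m n : ℕ) (_ : N ≤ n) (x : Γ(G.obj (op (n + m)), (U.1 : X.Opens))),
      (∀ a ∈ (I.map (multHom X (U.1 : X.Opens))) ^ m, a • x = 0) → ∀ hN : N ≤ n + m,
        (gm G hN).app _ x = 0 → (gm G (Nat.le_add_right n m)).app _ x = 0 := by
    rintro ⟨⟨U, hU⟩, hUS⟩
    haveI : IsNoetherianRing Γ(X, U) := IsLocallyNoetherian.component_noetherian ⟨U, hU⟩
    haveI := M1.finite_sections (hG.coh 0).1 (hG.coh 0).2 hU
    obtain ⟨N, hN⟩ := exists_torsion_stage (I.map (multHom X U)) (F := fun n => Γ(G.obj (op n), U))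
      (fun n => { toFun := (gm G (Nat.le_succ n)).app U
                  map_add' := map_add _
                  map_smul' := fun r s => Scheme.Modules.Hom.app_smul _ r s })
      (fun n => by haveI := (hG.quot n).epi; exact M1.app_surjective_affine_of_isQCoh (hG.coh _).1 (hG.coh _).1 _ hU)
      (fun n x hx => by rw [← Ideal.map_pow]; exact mem_of_app_eq_zero (hG.coh _).1 (hG.quot n) hU x hx)
      (fun n a ha x => by
        rw [← Ideal.map_pow] at ha
        exact app_eq_zero_of_mem' (L := I ^ (n + 1)) (𝟙 _) (fun b hb => by rw [hG.killed n b hb, zero_comp])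
          (Submodule.smul_mem_smul ha (trivial : x ∈ (⊤ : Submodule Γ(X, U) Γ(G.obj (op n), U)))))
    refine ⟨N, fun m n hn x htor hNm h0 => ?_⟩
    let y : ∀ p, Γ(G.obj (op p), U) := fun p => if h : p ≤ n + m then (gm G h).app U x else 0
    have hy : ∀ p (h : p ≤ n + m), y p = (gm G h).app U x := fun p h => dif_pos h
    have h := hN m n y hn (fun p hp => ?_) (fun a ha => ?_) (by rw [hy N hNm, h0])
    · rwa [hy n (Nat.le_add_right n m)] at h
    · show (gm G (Nat.le_succ p)).app U (y (p + 1)) = y p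
      rw [hy (p + 1) hp, hy p hp.le, ← gm_comp G (Nat.le_succ p) hp]
      rfl
    · rw [hy (n + m) le_rfl, gm_refl]
      exact htor a ha
  choose N hN using hloc
  haveI := hS.fintype
  refine ⟨Finset.univ.sup N, fun m n hn {W} y htor hNm hy0 => ?_⟩
  obtain ⟨r, u, hu, hdet⟩ := exists_family (X := X) (I ^ m)
  have hq : ∀ k, Coh.IsQCoh (G.obj (op k)) := fun k => (hG.coh k).1
  obtain ⟨K, ι, hK, hι, hfac⟩ := exists_common_kernel (M1.isQCoh_kernel (hq (n + m)) (hq _) (gm G hNm)) (hq (n + m)) r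
    fun i => kernel.ι (gm G hNm) ≫ Formal.smulMod A (G.obj (op (n + m))) (u i)
  obtain ⟨z, hz⟩ := hfac (kernel.lift _ y hy0) fun i => by rw [kernel.lift_ι_assoc]; exact htor _ (hu i)
  suffices h : (ι ≫ kernel.ι (gm G hNm)) ≫ gm G (Nat.le_add_right n m) = 0 by
    rw [← kernel.lift_ι _ y hy0, ← hz, Category.assoc, Category.assoc, ← Category.assoc ι, h, comp_zero]
  haveI := hK
  have hkill : ∀ a ∈ I ^ m, (ι ≫ kernel.ι (gm G hNm)) ≫ Formal.smulMod A (G.obj (op (n + m))) a = 0 := fun a ha => by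
    rw [← smulMod_naturality]
    exact hdet _ (fun i => by rw [smulMod_naturality, Category.assoc]; exact hι i) a ha
  refine ModLimH13.hom_eq_zero_of_generators _ fun x => ?_
  obtain ⟨U, hU⟩ := TopologicalSpace.Opens.mem_iSup.1
    (show x ∈ (⨆ i : S, (i.1 : X.Opens)) by rw [← hcov]; trivial)
  refine ⟨(U.1 : X.Opens), Set.univ, hU, U.1.2, Submodule.span_univ, fun s _ => ?_⟩
  have hNU : N U ≤ Finset.univ.sup N := Finset.le_sup (Finset.mem_univ U)
  refine hN U m n (hNU.trans hn) ((ι ≫ kernel.ι (gm G hNm)).app _ s) (fun a ha => ?_) (hNU.trans hNm) ?_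
  · rw [← Scheme.Modules.Hom.app_smul]
    rw [← Ideal.map_pow] at ha
    exact app_eq_zero_of_mem' (L := I ^ m) (ι ≫ kernel.ι (gm G hNm)) (fun b hb => by rw [smulMod_naturality, hkill b hb])
      (Submodule.smul_mem_smul ha (trivial : s ∈ (⊤ : Submodule Γ(X, (U.1 : X.Opens)) Γ(K, (U.1 : X.Opens)))))
  · have h1 : (ι ≫ kernel.ι (gm G hNm)) ≫ gm G (hNU.trans hNm) = 0 := by
      rw [← gm_comp G hNU hNm, Category.assoc, kernel.condition_assoc, zero_comp, comp_zero]
    exact congrArg (fun φ => φ.app (U.1 : X.Opens) s) h1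

/-- Torsion maps into the limit vanishing at a bounded stage vanish. -/
theorem exists_limit_torsion [IsNoetherian X] (I : Ideal A) {G : ℕᵒᵖ ⥤ X.Modules} (hG : IsSys I G) :
    ∃ N, ∀ (m : ℕ) {W : X.Modules} (y : W ⟶ limit G),
      (∀ a ∈ I ^ m, y ≫ Formal.smulMod A (limit G) a = 0) → y ≫ limit.π G (op N) = 0 → y = 0 := by
  obtain ⟨N, hN⟩ := exists_torsion_stage_sheaf I hG
  refine ⟨N, fun m {W} y htor h0 => limit.hom_ext ?_⟩
  rintro ⟨n⟩
  rw [zero_comp]
  have hw : ∀ {p q : ℕ} (h : p ≤ q), limit.π G (op q) ≫ gm G h = limit.π G (op p) := fun h => limit.w G _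
  rcases le_total n N with h | h
  · rw [← hw h, ← Category.assoc, h0, zero_comp]
  · rw [← hw (Nat.le_add_right n m), ← Category.assoc]
    refine hN m n h _ (fun a ha => ?_) (h.trans (Nat.le_add_right n m)) (by rw [Category.assoc, hw, h0])
    rw [Category.assoc, ← smulMod_naturality, ← Category.assoc, htor a ha, zero_comp]

end Groth.Agent.FormalExtH7
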